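import Cfsg.Agent.Lib.CosetEnum.Basic

/-!
Coset enumeration data: 16 cosets, 16 nodes, 16 facts.
-/

set_option autoImplicit false
set_option linter.style.longLine false

namespace CfsgLib.SuzPres
open CfsgLib.CosetEnum

/-- the certificate -/
def certF : Cert where
  K := 2
  invs := [0, 1]
  rels := [[0, 0],
    [0, 1, 0, 1, 0, 1, 0, 1, 0, 1, 0, 1, 0, 1, 0, 1],
    [1, 1]]
  subs := []
  N := 16
  M := 16
  F := 16
  defs := (.leaf 0x1a10000181000016000001400000121000010100000e000000c000000a10000081000006000000400000021000000100000000000000)
  facts := (.leaf 0x7800000000700400c00007000000f0000000000000000000000007840000d0000000000000000000000007040000c0000000000000000000000006800000b0000000000000000000000006000000a0000000000000000000000005840000900000000000000000000000050400008000000000000000000000000480000070000000000000000000000004000000600000000000000000000000038400005000000000000000000000000304000040000000000000000000000002800000300000000000000000000000020000002000000000000000000000000184000010000000000000000000000001040000000000000000000000000000008000000)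
  refs := (.leaf 0x1c00001800001400001000000c00000800000400000000000300000700000b00000f00001300001700001b)
  tab := (.leaf 0xd0000e0000c0000f0000f0000b0000e0000a000090000d000080000c0000b000070000a0000600005000090000400008000070000300006000020000100005000000000400003000000000200001)
  nd := (.leaf 0xf00000e00000d00000c00000b00000a000009000008000007000006000005000004000003000002000001000000)
  edge := (.leaf 0x1d00001e00001b00001f00001c00001900001a00001700001500001800001300001600001400001100001200000f00000d00001000000b00000e00000c00000900000a000007000005000008000003000006000004000001000002000000)
  img := (.leaf 0xf0000e0000d0000c0000b0000a00009000080000700006000050000400003000020000100000)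

end CfsgLib.SuzPres
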