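import Cfsg.Agent.Lib.SuzPres.CheckMThreeStep0
import Cfsg.Agent.Lib.SuzPres.CheckMThreeStep1
import Cfsg.Agent.Lib.SuzPres.CheckMThreeStep2
import Cfsg.Agent.Lib.SuzPres.CheckMThreeStep3
import Cfsg.Agent.Lib.SuzPres.CheckMThreeStep4
import Cfsg.Agent.Lib.SuzPres.CheckMThreeStep5
import Cfsg.Agent.Lib.SuzPres.CheckMThreeStep6
import Cfsg.Agent.Lib.CosetEnum.Use
import Cfsg.Agent.Lib.SuzPres.DataMThree

/-!
Kernel checks of coset enumeration data.
-/

set_option autoImplicit false

namespace CfsgLib.SuzPres
open CfsgLib.CosetEnum

theorem certMThree_complete : certMThree.Complete :=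
  Cert.complete_of_blocks _ (k := 13) (n := 7) (k₂ := 13) (by decide +kernel)
    (fun j hj => by
      match j, hj with
      | 0, _ => exact certMThree_step0
      | 1, _ => exact certMThree_step1
      | 2, _ => exact certMThree_step2
      | 3, _ => exact certMThree_step3
      | 4, _ => exact certMThree_step4
      | 5, _ => exact certMThree_step5
      | 6, _ => exact certMThree_step6
      | n + 7, h => omega)
    (by decide +kernel) (by decide +kernel) (by decide +kernel)

end CfsgLib.SuzPres
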