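import Cfsg.Agent.Lib.SuzPres.CheckMTwoStep0
import Cfsg.Agent.Lib.SuzPres.CheckMTwoStep1
import Cfsg.Agent.Lib.SuzPres.CheckMTwoStep2
import Cfsg.Agent.Lib.SuzPres.CheckMTwoStep3
import Cfsg.Agent.Lib.CosetEnum.Use
import Cfsg.Agent.Lib.SuzPres.DataMTwo

/-!
Kernel checks of coset enumeration data.
-/

set_option autoImplicit false

namespace CfsgLib.SuzPres
open CfsgLib.CosetEnum

theorem certMTwo_complete : certMTwo.Complete :=
  Cert.complete_of_blocks _ (k := 13) (n := 4) (k₂ := 11) (by decide +kernel)
    (fun j hj => by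
      match j, hj with
      | 0, _ => exact certMTwo_step0
      | 1, _ => exact certMTwo_step1
      | 2, _ => exact certMTwo_step2
      | 3, _ => exact certMTwo_step3
      | n + 4, h => omega)
    (by decide +kernel) (by decide +kernel) (by decide +kernel)

end CfsgLib.SuzPres
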