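import Cfsg.Agent.Lib.SuzPres.DataPDefs
import Cfsg.Agent.Lib.SuzPres.DataPFactsLLL
import Cfsg.Agent.Lib.SuzPres.DataPFactsLLR
import Cfsg.Agent.Lib.SuzPres.DataPFactsLRL
import Cfsg.Agent.Lib.SuzPres.DataPFactsLRR
import Cfsg.Agent.Lib.SuzPres.DataPFactsRLL
import Cfsg.Agent.Lib.SuzPres.DataPFactsRLR
import Cfsg.Agent.Lib.SuzPres.DataPFactsRRL
import Cfsg.Agent.Lib.SuzPres.DataPFactsRRR
import Cfsg.Agent.Lib.SuzPres.DataPRefsLL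
import Cfsg.Agent.Lib.SuzPres.DataPRefsLR
import Cfsg.Agent.Lib.SuzPres.DataPRefsRL
import Cfsg.Agent.Lib.SuzPres.DataPRefsRR
import Cfsg.Agent.Lib.SuzPres.DataPTabL
import Cfsg.Agent.Lib.SuzPres.DataPTabR
import Cfsg.Agent.Lib.SuzPres.DataPNd
import Cfsg.Agent.Lib.SuzPres.DataPEdgeL
import Cfsg.Agent.Lib.SuzPres.DataPEdgeR
import Cfsg.Agent.Lib.SuzPres.DataPImg

/-!
Coset enumeration data: 22880 cosets, 27096 nodes, 94792 facts.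
-/

set_option autoImplicit false
set_option linter.style.longLine false

namespace CfsgLib.SuzPres
open CfsgLib.CosetEnum

/-- the certificate -/
def certP : Cert where
  K := 7
  invs := [0, 1, 2, 3, 4, 5, 6]
  rels := [[0, 0],
    [0, 1, 0, 1, 0, 1, 0, 1, 0, 1],
    [0, 2, 0, 2],
    [0, 3, 0, 3],
    [0, 4, 0, 4],
    [0, 5, 0, 5],
    [0, 6, 0, 6],
    [1, 1],
    [1, 2, 1, 2, 1, 2],
    [1, 3, 1, 3],
    [1, 4, 1, 4, 1, 4],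
    [1, 5, 1, 5, 1, 5],
    [1, 6, 1, 6],
    [2, 2],
    [2, 3, 2, 3, 2, 3, 2, 3, 2, 3, 2, 3, 2, 3, 2, 3],
    [2, 4, 2, 4],
    [2, 5, 2, 5],
    [2, 6, 2, 6],
    [3, 3],
    [3, 4, 3, 4],
    [3, 5, 3, 5],
    [3, 6, 3, 6, 3, 6],
    [4, 4],
    [4, 5, 4, 5, 4, 5, 4, 5],
    [4, 6, 4, 6],
    [5, 5],
    [5, 6, 5, 6],
    [6, 6],
    [0, 3, 2, 3, 2, 3, 2, 3, 2],
    [0, 5, 4, 5, 4],
    [0, 1, 2, 4, 0, 1, 2, 4, 0, 1, 2, 4, 0, 1, 2, 4, 0, 1, 2, 4],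
    [1, 4, 5, 1, 4, 5, 1, 4, 5, 1, 4, 5, 1, 4, 5],
    [1, 2, 3, 2, 3, 1, 2, 3, 2, 3, 1, 2, 3, 2, 3, 1, 2, 3, 2, 3, 1, 2, 3, 2, 3, 6, 1, 2, 3, 2, 3, 1, 2, 3, 2, 3, 1, 2, 3, 2, 3, 1, 2, 3, 2, 3, 1, 2, 3, 2, 3, 6, 1, 2, 3, 2, 3, 1, 2, 3, 2, 3, 1, 2, 3, 2, 3, 1, 2, 3, 2, 3, 1, 2, 3, 2, 3, 6]]
  subs := [[0],
    [1],
    [2],
    [3],
    [4],
    [5]]
  N := 22880
  M := 27096
  F := 94792
  defs := certPDefs
  facts := (.node (.node (.node certPFactsLLL certPFactsLLR) (.node certPFactsLRL certPFactsLRR)) (.node (.node certPFactsRLL certPFactsRLR) (.node certPFactsRRL certPFactsRRR)))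
  refs := (.node (.node certPRefsLL certPRefsLR) (.node certPRefsRL certPRefsRR))
  tab := (.node certPTabL certPTabR)
  nd := certPNd
  edge := (.node certPEdgeL certPEdgeR)
  img := certPImg

end CfsgLib.SuzPres
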