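import Cfsg.Agent.Lib.SuzPres.CheckPStep0
import Cfsg.Agent.Lib.SuzPres.CheckPStep1
import Cfsg.Agent.Lib.SuzPres.CheckPStep2
import Cfsg.Agent.Lib.SuzPres.CheckPStep3
import Cfsg.Agent.Lib.SuzPres.CheckPStep4
import Cfsg.Agent.Lib.SuzPres.CheckPStep5
import Cfsg.Agent.Lib.SuzPres.CheckPStep6
import Cfsg.Agent.Lib.SuzPres.CheckPStep7
import Cfsg.Agent.Lib.SuzPres.CheckPStep8
import Cfsg.Agent.Lib.SuzPres.CheckPStep9
import Cfsg.Agent.Lib.SuzPres.CheckPStep10
import Cfsg.Agent.Lib.SuzPres.CheckPStep11
import Cfsg.Agent.Lib.CosetEnum.Blocks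
import Cfsg.Agent.Lib.SuzPres.DataP

/-!
Kernel checks of coset enumeration data.
-/

set_option autoImplicit false
set_option Elab.async false

namespace CfsgLib.SuzPres
open CfsgLib.CosetEnum

theorem certP_entry0 : allUp certP.entryOK' 13 (0 * 2 ^ 13) = true := by decide +kernel

theorem certP_entry1 : allUp certP.entryOK' 13 (1 * 2 ^ 13) = true := by decide +kernel

theorem certP_entry2 : allUp certP.entryOK' 13 (2 * 2 ^ 13) = true := by decide +kernel

theorem certP_entry3 : allUp certP.entryOK' 13 (3 * 2 ^ 13) = true := by decide +kernel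

theorem certP_complete : certP.Complete :=
  Cert.complete_of_blocks₂ _ (k := 13) (n := 12) (k₂ := 13) (n₂ := 4) (by decide +kernel)
    (fun j hj => by
      match j, hj with
      | 0, _ => exact certP_step0
      | 1, _ => exact certP_step1
      | 2, _ => exact certP_step2
      | 3, _ => exact certP_step3
      | 4, _ => exact certP_step4
      | 5, _ => exact certP_step5
      | 6, _ => exact certP_step6
      | 7, _ => exact certP_step7
      | 8, _ => exact certP_step8
      | 9, _ => exact certP_step9
      | 10, _ => exact certP_step10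
      | 11, _ => exact certP_step11
      | n + 12, h => omega)
    (by decide +kernel)
    (fun j hj => by
      match j, hj with
      | 0, _ => exact certP_entry0
      | 1, _ => exact certP_entry1
      | 2, _ => exact certP_entry2
      | 3, _ => exact certP_entry3
      | n + 4, h => omega)
    (by decide +kernel)

end CfsgLib.SuzPres
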