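import Cfsg.Agent.Lib.CosetEnum.Chunks
import Cfsg.Agent.Lib.SuzPres.DataP

/-!
Kernel check of a block of a table.
-/

set_option autoImplicit false
set_option linter.style.longLine false
set_option Elab.async false

namespace CfsgLib.SuzPres
open CfsgLib.CosetEnum

theorem certP_act8 : allUp certP.actOK' 10 (8 * 2 ^ 10) = true := by decide +kernel

theorem certP_act9 : allUp certP.actOK' 10 (9 * 2 ^ 10) = true := by decide +kernel

theorem certP_act10 : allUp certP.actOK' 10 (10 * 2 ^ 10) = true := by decide +kernel

theorem certP_act11 : allUp certP.actOK' 10 (11 * 2 ^ 10) = true := by decide +kernel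

end CfsgLib.SuzPres
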