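import Cfsg.Agent.Lib.CosetEnum.Chunks
import Cfsg.Agent.Lib.SuzPres.DataP

/-!
Kernel check of a block of a table.
-/

set_option autoImplicit false
set_option linter.style.longLine false
set_option Elab.async false

namespace CfsgLib.SuzPres
open CfsgLib.CosetEnum

theorem certP_ndimg0 : allUp certP.ndImgOK' 10 (0 * 2 ^ 10) = true := by decide +kernel

theorem certP_ndimg1 : allUp certP.ndImgOK' 10 (1 * 2 ^ 10) = true := by decide +kernel

theorem certP_ndimg2 : allUp certP.ndImgOK' 10 (2 * 2 ^ 10) = true := by decide +kernel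

theorem certP_ndimg3 : allUp certP.ndImgOK' 10 (3 * 2 ^ 10) = true := by decide +kernel

theorem certP_ndimg4 : allUp certP.ndImgOK' 10 (4 * 2 ^ 10) = true := by decide +kernel

theorem certP_ndimg5 : allUp certP.ndImgOK' 10 (5 * 2 ^ 10) = true := by decide +kernel

theorem certP_ndimg6 : allUp certP.ndImgOK' 10 (6 * 2 ^ 10) = true := by decide +kernel

theorem certP_ndimg7 : allUp certP.ndImgOK' 10 (7 * 2 ^ 10) = true := by decide +kernel

theorem certP_ndimg8 : allUp certP.ndImgOK' 10 (8 * 2 ^ 10) = true := by decide +kernel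

theorem certP_ndimg9 : allUp certP.ndImgOK' 10 (9 * 2 ^ 10) = true := by decide +kernel

theorem certP_ndimg10 : allUp certP.ndImgOK' 10 (10 * 2 ^ 10) = true := by decide +kernel

theorem certP_ndimg11 : allUp certP.ndImgOK' 10 (11 * 2 ^ 10) = true := by decide +kernel

theorem certP_ndimg12 : allUp certP.ndImgOK' 10 (12 * 2 ^ 10) = true := by decide +kernel

theorem certP_ndimg13 : allUp certP.ndImgOK' 10 (13 * 2 ^ 10) = true := by decide +kernel

theorem certP_ndimg14 : allUp certP.ndImgOK' 10 (14 * 2 ^ 10) = true := by decide +kernel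

theorem certP_ndimg15 : allUp certP.ndImgOK' 10 (15 * 2 ^ 10) = true := by decide +kernel

theorem certP_ndimg16 : allUp certP.ndImgOK' 10 (16 * 2 ^ 10) = true := by decide +kernel

theorem certP_ndimg17 : allUp certP.ndImgOK' 10 (17 * 2 ^ 10) = true := by decide +kernel

theorem certP_ndimg18 : allUp certP.ndImgOK' 10 (18 * 2 ^ 10) = true := by decide +kernel

theorem certP_ndimg19 : allUp certP.ndImgOK' 10 (19 * 2 ^ 10) = true := by decide +kernel

theorem certP_ndimg20 : allUp certP.ndImgOK' 10 (20 * 2 ^ 10) = true := by decide +kernel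

theorem certP_ndimg21 : allUp certP.ndImgOK' 10 (21 * 2 ^ 10) = true := by decide +kernel

theorem certP_ndimg22 : allUp certP.ndImgOK' 10 (22 * 2 ^ 10) = true := by decide +kernel

end CfsgLib.SuzPres
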