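import Cfsg.Agent.Lib.CosetEnum.Blocks
import Cfsg.Agent.Lib.SuzPres.CheckPAct0
import Cfsg.Agent.Lib.SuzPres.CheckPAct4
import Cfsg.Agent.Lib.SuzPres.CheckPAct8
import Cfsg.Agent.Lib.SuzPres.CheckPAct12
import Cfsg.Agent.Lib.SuzPres.CheckPAct16
import Cfsg.Agent.Lib.SuzPres.CheckPAct20
import Cfsg.Agent.Lib.SuzPres.CheckPNdImg0
import Cfsg.Agent.Lib.SuzPres.CheckPImg0

/-!
The coset table of the subgroup of index 22880 as an action.
-/

set_option autoImplicit false
set_option linter.style.longLine false

namespace CfsgLib.SuzPres
open CfsgLib.CosetEnum

theorem certP_action : certP.IsAction :=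
  Cert.isAction_of_blocks _ (k₁ := 13) (n₁ := 4) (k₂ := 10) (n₂ := 23)
    (by decide +kernel) (by decide +kernel)
    (fun j hj => by
      match j, hj with
      | 0, _ => exact certP_act0
      | 1, _ => exact certP_act1
      | 2, _ => exact certP_act2
      | 3, _ => exact certP_act3
      | 4, _ => exact certP_act4
      | 5, _ => exact certP_act5
      | 6, _ => exact certP_act6
      | 7, _ => exact certP_act7
      | 8, _ => exact certP_act8
      | 9, _ => exact certP_act9
      | 10, _ => exact certP_act10
      | 11, _ => exact certP_act11
      | 12, _ => exact certP_act12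
      | 13, _ => exact certP_act13
      | 14, _ => exact certP_act14
      | 15, _ => exact certP_act15
      | 16, _ => exact certP_act16
      | 17, _ => exact certP_act17
      | 18, _ => exact certP_act18
      | 19, _ => exact certP_act19
      | 20, _ => exact certP_act20
      | 21, _ => exact certP_act21
      | 22, _ => exact certP_act22
      | r + 23, h => omega)
    (fun j hj => by
      match j, hj with
      | 0, _ => exact certP_ndimg0
      | 1, _ => exact certP_ndimg1
      | 2, _ => exact certP_ndimg2
      | 3, _ => exact certP_ndimg3
      | 4, _ => exact certP_ndimg4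
      | 5, _ => exact certP_ndimg5
      | 6, _ => exact certP_ndimg6
      | 7, _ => exact certP_ndimg7
      | 8, _ => exact certP_ndimg8
      | 9, _ => exact certP_ndimg9
      | 10, _ => exact certP_ndimg10
      | 11, _ => exact certP_ndimg11
      | 12, _ => exact certP_ndimg12
      | 13, _ => exact certP_ndimg13
      | 14, _ => exact certP_ndimg14
      | 15, _ => exact certP_ndimg15
      | 16, _ => exact certP_ndimg16
      | 17, _ => exact certP_ndimg17
      | 18, _ => exact certP_ndimg18
      | 19, _ => exact certP_ndimg19
      | 20, _ => exact certP_ndimg20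
      | 21, _ => exact certP_ndimg21
      | 22, _ => exact certP_ndimg22
      | r + 23, h => omega)
    (by decide +kernel)
    (fun j hj => by
      match j, hj with
      | 0, _ => exact certP_img0
      | 1, _ => exact certP_img1
      | 2, _ => exact certP_img2
      | 3, _ => exact certP_img3
      | r + 4, h => omega)
    (by decide +kernel)

end CfsgLib.SuzPres
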