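import Cfsg.Agent.Lib.CosetEnum.Chain
import Cfsg.Agent.Lib.CosetEnum.OutSplit
import Cfsg.Agent.Lib.SuzPres.DataP

/-!
A suborbit of the subgroup of index 22880.
-/

set_option autoImplicit false
set_option linter.style.longLine false
set_option Elab.async false

namespace CfsgLib.SuzPres
open CfsgLib.CosetEnum

/-- part 0 of a tree -/
def subTreeP1Part0 : List (ℕ × ℕ) := [(1, 3), (2, 2), (3, 1), (3, 3), (4, 0), (4, 3), (4, 4), (4, 5), (6, 1), (6, 3), (6, 4), (6, 5), (7, 2), (7, 4), (7, 5), (8, 5), (9, 4), (11, 0), (11, 3), (11, 4), (11, 5), (12, 2), (12, 4), (12, 5), (13, 1), (14, 1), (15, 3), (15, 4), (15, 5), (16, 5), (17, 4), (19, 1), (20, 1), (21, 3), (21, 4), (21, 5), (22, 2), (22, 4), (22, 5), (23, 1), (23, 5), (24, 1), (24, 4), (25, 1), (25, 3), (25, 4), (25, 5), (26, 1), (27, 1), (29, 0), (29, 2), (29, 5), (30, 0), (30, 2), (30, 4), (31, 4), (31, 5), (32, 1), (32, 5), (33, 1), (33, 4), (35, 1), (37, 1), (39, 0), (39, 2), (39, 4), (40, 0), (40, 2), (40, 5), (41, 2), (41, 4), (41, 5), (42, 1), (43, 1), (44,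 1), (44, 3), (44, 4), (44, 5), (45, 1), (45, 5), (46, 1), (46, 4), (48, 5), (49, 1), (50, 4), (51, 1), (52, 0), (52, 3), (52, 4), (52, 5), (53, 4), (53, 5), (54, 1), (55, 1), (57, 0), (57, 2), (57, 5), (59, 0), (59, 2), (59, 4)]

/-- part 1 of a tree -/
def subTreeP1Part1 : List (ℕ × ℕ) := [(61, 1), (62, 3), (62, 5), (64, 1), (65, 3), (65, 4), (67, 1), (67, 5), (68, 1), (68, 4), (70, 5), (71, 1), (73, 4), (74, 1), (77, 0), (77, 2), (77, 4), (79, 0), (79, 2), (79, 5), (81, 2), (81, 4), (82, 4), (84, 2), (84, 5), (85, 5), (87, 1), (87, 3), (87, 4), (87, 5), (88, 1), (89, 1), (93, 0), (93, 3), (93, 4), (93, 5), (94, 4), (94, 5), (95, 1), (95, 5), (96, 1), (96, 4), (98, 2), (98, 5), (99, 1), (101, 2), (101, 4), (102, 1), (108, 1), (108, 3), (108, 4), (108, 5), (109, 4), (109, 5), (110, 1), (110, 5), (111, 1), (111, 4), (113, 1), (114, 1), (116, 0), (116, 2), (116, 5), (118, 0), (118, 2), (118, 4), (121, 1), (121, 2), (122, 3), (122, 5), (123, 4), (125, 1), (125, 2), (126, 3), (126, 4), (127, 5), (130, 2), (133, 2), (135,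 2), (136, 1), (138, 2), (139, 1), (142, 1), (144, 0), (144, 2), (147, 1), (149, 0), (149, 2), (153, 2), (153, 4), (154, 4), (157, 2), (157, 5), (158, 5), (161, 4), (164, 5), (167, 3), (168, 4), (168, 5), (176, 3)]

/-- part 2 of a tree -/
def subTreeP1Part2 : List (ℕ × ℕ) := [(176, 4), (176, 5), (177, 4), (177, 5), (178, 1), (178, 5), (179, 1), (179, 4), (181, 1), (181, 5), (182, 1), (182, 4), (184, 0), (184, 2), (184, 5), (185, 1), (187, 0), (187, 2), (187, 4), (188, 1), (191, 3), (191, 5), (194, 2), (196, 3), (196, 4), (199, 2), (201, 3), (202, 4), (202, 5), (206, 1), (206, 5), (207, 1), (207, 4), (209, 2), (210, 1), (212, 2), (213, 1), (216, 0), (216, 2), (216, 5), (218, 0), (218, 2), (218, 4), (221, 2), (221, 5), (222, 3), (222, 5), (226, 2), (226, 4), (227, 3), (227, 4), (233, 3), (235, 5), (236, 1), (236, 4), (241, 3), (243, 4), (244, 1), (244, 5), (248, 1), (248, 3), (250, 1), (250, 3), (254, 0), (259, 0), (263, 2), (266, 1), (266, 2), (267, 3), (271, 2), (274, 1), (274, 2), (275, 3), (280, 4), (283, 1), (286,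 5), (289, 1), (292, 1), (293, 1), (294, 2), (304, 4), (304, 5), (305, 1), (306, 1), (308, 1), (308, 5), (309, 1), (309, 4), (311, 0), (311, 2), (311, 5), (312, 1), (314, 0), (314, 2), (314, 4), (315, 1), (318, 0), (318, 2), (318, 5), (319, 1)]

/-- part 3 of a tree -/
def subTreeP1Part3 : List (ℕ × ℕ) := [(321, 0), (321, 2), (321, 4), (322, 1), (325, 1), (325, 2), (326, 3), (326, 5), (327, 1), (327, 4), (329, 0), (329, 2), (332, 1), (332, 2), (333, 3), (333, 4), (334, 1), (334, 5), (336, 0), (336, 2), (340, 5), (341, 1), (344, 3), (346, 4), (347, 1), (350, 3), (352, 2), (361, 1), (364, 1), (367, 3), (369, 0), (369, 2), (372, 3), (374, 0), (374, 2), (378, 5), (383, 4), (389, 1), (389, 3), (389, 5), (392, 5), (393, 1), (398, 1), (398, 3), (398, 4), (401, 4), (402, 1), (411, 1), (411, 4), (413, 0), (413, 4), (414, 1), (421, 1), (421, 5), (423, 0), (423, 5), (424, 1), (428, 3), (428, 5), (431, 3), (431, 4), (436, 1), (442, 1), (448, 3), (452, 0), (452, 2), (453, 1), (453, 3), (460, 3), (464, 0), (464, 2), (465, 1), (465,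 3), (475, 1), (478, 0), (478, 5), (481, 1), (484, 0), (484, 4), (489, 3), (498, 1), (499, 1), (506, 5), (507, 1), (509, 4), (510, 1), (513, 2), (514, 3), (514, 5), (517, 2), (520, 2), (521, 3), (521, 4), (524, 2), (528, 1), (529, 5), (530, 1), (532, 0), (532, 2), (535, 1)]

/-- part 4 of a tree -/
def subTreeP1Part4 : List (ℕ × ℕ) := [(536, 4), (537, 1), (539, 0), (539, 2), (544, 3), (546, 5), (547, 1), (547, 4), (549, 0), (549, 2), (553, 2), (554, 3), (559, 3), (561, 4), (562, 1), (562, 5), (564, 0), (564, 2), (568, 2), (569, 3), (574, 1), (576, 0), (576, 4), (581, 1), (583, 0), (583, 5), (588, 3), (598, 0), (598, 2), (602, 0), (602, 2), (644, 1), (646, 0), (658, 1), (660, 0), (671, 0), (671, 2), (675, 1), (688, 1), (707, 0), (707, 2), (715, 0), (715, 2), (731, 2), (732, 1), (732, 3), (734, 0), (734, 5), (751, 2), (752, 1), (752, 3), (754, 0), (754, 4), (773, 1), (781, 1), (817, 1), (817, 3), (824, 3), (828, 1), (828, 3), (835, 3), (845, 0), (845, 2), (848, 2), (857, 0), (857, 2), (860, 2), (871, 1), (871, 4), (873,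 0), (894, 1), (894, 5), (896, 0), (948, 2), (954, 2), (1089, 2), (1103, 2), (1251, 3), (1266, 3), (1290, 2), (1306, 2), (1625, 1), (1652, 1), (1949, 1), (1970, 1)]

/-- a tree -/
def subTreeP1 : List (ℕ × ℕ) :=
  [subTreeP1Part0, subTreeP1Part1, subTreeP1Part2, subTreeP1Part3, subTreeP1Part4].flatten

/-- suborbit 1, of length 486 -/
def subMaskP1 : ℕ := 0x100000000100000000000000000000000000000000000000000000000000000000000000000000000000000000000000000000000000000000000000000000000000000000000000000800000000000020000000000000000000000000000000000000000000000000000000000000000000000000000000000000000000000000000000000000000000000000000000000000040000200000000400002000000000000000000000000000000000000000000000000000000000001000000200000000000000000000000000000000000000000000000040400000000000000098000004c0008c008c00080c10180000000008040000006680000019a00000018006000010004300009000120000000000000c300106419014334828669032a32a08d11a294050046464000d8200d8200808318b305980147051c0410646444014a94336c66d8b97172e6cac0392480b10b10411b1a86a06c3639c529b0d4d3172e6cdb70372cb0c8c8a555b5b1ce536deb59b6f57feee294dfeee56ff6dfbfea6dfeaff7fabeffbfbfe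

theorem subMaskP1_closed0 : Cert.blockPts certP.N (maskClosed certP subMaskP1) 12 0 = true := by decide +kernel

theorem subMaskP1_closed1 : Cert.blockPts certP.N (maskClosed certP subMaskP1) 12 1 = true := by decide +kernel

theorem subMaskP1_closed2 : Cert.blockPts certP.N (maskClosed certP subMaskP1) 12 2 = true := by decide +kernel

theorem subMaskP1_closed3 : Cert.blockPts certP.N (maskClosed certP subMaskP1) 12 3 = true := by decide +kernel

theorem subMaskP1_closed4 : Cert.blockPts certP.N (maskClosed certP subMaskP1) 12 4 = true := by decide +kernel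

theorem subMaskP1_closed5 : Cert.blockPts certP.N (maskClosed certP subMaskP1) 12 5 = true := by decide +kernel

theorem subMaskP1_tree :
    (reach certP certP.subs subTreeP1 (2 ^ 1) == some subMaskP1) = true := by decide +kernel

theorem subMaskP1_orbit : Suborbit certP 1 subMaskP1 :=
  ⟨⟨by decide +kernel, by decide +kernel⟩,
    Cert.allPts_spec (Cert.allPts_of_blockPts (k := 12) (b := 6) (by decide +kernel) (by decide +kernel)
      fun j hj => by
      match j, hj with
      | 0, _ => exact subMaskP1_closed0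
      | 1, _ => exact subMaskP1_closed1
      | 2, _ => exact subMaskP1_closed2
      | 3, _ => exact subMaskP1_closed3
      | 4, _ => exact subMaskP1_closed4
      | 5, _ => exact subMaskP1_closed5
      | i + 6, h => omega),
    _, beq_iff_eq.mp subMaskP1_tree⟩

end CfsgLib.SuzPres
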