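import Cfsg.Agent.Lib.SuzPres.OutBase
import Cfsg.Agent.Lib.SuzPres.SuborbitP1

/-!
Kernel check of one node of the tuple search.
-/

set_option autoImplicit false
set_option linter.style.longLine false
set_option Elab.async false

namespace CfsgLib.SuzPres

open CfsgLib.CosetEnum

theorem suzHead0 : certP.tupHead ((suzNodes.map TupNode.ps) ++ [stdP]) suzNode0 = true := by decide +kernel

theorem suzCover0_b0 : Cert.blockPts certP.N (certP.tupCover (1 ||| subMaskP1) stdP suzNode0) 12 0 = true := by decide +kernel

theorem suzCover0_b1 : Cert.blockPts certP.N (certP.tupCover (1 ||| subMaskP1) stdP suzNode0) 12 1 = true := by decide +kernel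

theorem suzCover0_b2 : Cert.blockPts certP.N (certP.tupCover (1 ||| subMaskP1) stdP suzNode0) 12 2 = true := by decide +kernel

theorem suzCover0_b3 : Cert.blockPts certP.N (certP.tupCover (1 ||| subMaskP1) stdP suzNode0) 12 3 = true := by decide +kernel

theorem suzCover0_b4 : Cert.blockPts certP.N (certP.tupCover (1 ||| subMaskP1) stdP suzNode0) 12 4 = true := by decide +kernel

theorem suzCover0_b5 : Cert.blockPts certP.N (certP.tupCover (1 ||| subMaskP1) stdP suzNode0) 12 5 = true := by decide +kernel

theorem suzNode0_ok : certP.tupNodeOK (1 ||| subMaskP1) stdP ((suzNodes.map TupNode.ps) ++ [stdP]) suzNode0 = true :=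
  certP.tupNodeOK_of suzHead0 (Cert.allPts_of_blockPts (k := 12) (b := 6) (by decide +kernel) (by decide +kernel)
    fun j hj => by
      match j, hj with
      | 0, _ => exact suzCover0_b0
      | 1, _ => exact suzCover0_b1
      | 2, _ => exact suzCover0_b2
      | 3, _ => exact suzCover0_b3
      | 4, _ => exact suzCover0_b4
      | 5, _ => exact suzCover0_b5
      | n + 6, h => omega)

end CfsgLib.SuzPres
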