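import Cfsg.Agent.Lib.SuzPres.Main
import Cfsg.Agent.Lib.SuzPres.CheckP
import Cfsg.Agent.Lib.SuzPres.CheckR

/-!
The subgroup generated by `a, b, c, d, f, g` of the presented Suzuki group has index 22880.
-/

set_option autoImplicit false

namespace CfsgLib.SuzPres

open CfsgLib.CosetEnum Cfsg.Spor

/-- the generators, with `e` moved to the end -/
def lettersP : List Suz.Gen := [.a, .b, .c, .d, .f, .g, .e]

/-- the further relators as words in that order -/
def extraWP : List (List ℕ) := [
  [0, 3, 2, 3, 2, 3, 2, 3, 2],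
  [0, 5, 4, 5, 4],
  [0, 1, 2, 4, 0, 1, 2, 4, 0, 1, 2, 4, 0, 1, 2, 4, 0, 1, 2, 4],
  [1, 4, 5, 1, 4, 5, 1, 4, 5, 1, 4, 5, 1, 4, 5],
  [1, 2, 3, 2, 3, 1, 2, 3, 2, 3, 1, 2, 3, 2, 3, 1, 2, 3, 2, 3, 1, 2, 3, 2, 3, 6,
   1, 2, 3, 2, 3, 1, 2, 3, 2, 3, 1, 2, 3, 2, 3, 1, 2, 3, 2, 3, 1, 2, 3, 2, 3, 6,
   1, 2, 3, 2, 3, 1, 2, 3, 2, 3, 1, 2, 3, 2, 3, 1, 2, 3, 2, 3, 1, 2, 3, 2, 3, 6]]

theorem extraWordsP : ExtraWords lettersP Suz.extra extraWP := by
  unfold ExtraWords Suz.extra extraWP
  refine .cons ?_ (.cons ?_ (.cons ?_ (.cons ?_ (.cons ?_ .nil))))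
  all_goals
    intro P _ f hf
    have hi : ∀ x, (f x)⁻¹ = f x := fun x => inv_eq_of_mul_eq_one_right (hf x)
    simp [prodW, genOf, lettersP, Suz.a, Suz.b, Suz.c, Suz.d, Suz.e, Suz.f, Suz.g, pow_succ,
      mul_assoc, hi]

theorem mem_lettersP : ∀ x, x ∈ lettersP := by intro x; cases x <;> decide

/-- the numbered generators -/
def genP : ℕ → Suz := presGen lettersP Suz.edges Suz.extra

theorem genP_sq (g : ℕ) : genP g * genP g = 1 := by
  unfold genP presGen genOf
  split
  · exact of_sq (nodes _)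
  · simp

theorem presP : presOK lettersP Suz.edges extraWP certP = true := by decide +kernel

/-- the subgroup generated by `a, b, c, d, f, g` -/
def subP : Subgroup Suz := genSub genP 6

theorem blockEP : blockOK certE certP.rels 0 4 = true := by decide +kernel
theorem blockFP : blockOK certF certP.rels 2 2 = true := by decide +kernel
theorem blockRP : blockOK certR certP.rels 0 6 = true := by decide +kernel
theorem blockPP : blockOK certP certP.rels 0 7 = true := by decide +kernel

theorem modelP (H : Subgroup Suz) (h : ∀ w ∈ certP.subs, prodW genP w ∈ H) : Model certP H genP :=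
  presModel nodes extraWordsP presP H h

theorem rel_eq_one : ∀ r ∈ certP.rels, prodW genP r = 1 :=
  (modelP ⊤ fun _ _ => trivial).rel

theorem subP_card : Finite subP ∧ Nat.card subP ≤ 9072 * (135 * (16 * 1)) := by
  have hF := block_card_le genP_sq rel_eq_one certF_complete blockFP (subs_closure_bot rfl)
  have hE := block_step genP_sq rel_eq_one certE_complete blockEP (d := 2) (k := 2)
    (by decide +kernel) le_rfl hF
  have hR := block_step genP_sq rel_eq_one certR_complete blockRP (d := 0) (k := 4)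
    (by decide +kernel) (by norm_num) hE
  rw [genSub_blockGen_zero] at hR
  exact hR

theorem top_card_le {n : ℕ} (hn : Finite subP ∧ Nat.card subP ≤ n) :
    Nat.card Suz ≤ 22880 * n := by
  rw [show subP = genSub (blockGen genP (0 + 0) 6) 6 from (genSub_blockGen_zero genP 6).symm] at hn
  have h := block_step genP_sq rel_eq_one certP_complete blockPP (d := 0) (k := 6)
    (by decide +kernel) (by norm_num) hn
  have htop : Subgroup.closure {y | ∃ g < certP.K, genP g = y} = ⊤ :=
    presGen_top mem_lettersP rfl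
  rw [genSub_blockGen_zero, genSub, show (7 : ℕ) = certP.K from rfl, htop] at h
  rw [← Nat.card_congr Subgroup.topEquiv.toEquiv]
  exact h.2

theorem index_subP : subP.index = 22880 := by
  have hmul := subP.card_mul_index
  rw [card_faithful.1] at hmul
  have hle : subP.index ≤ 22880 := by
    have h := top_card_le ⟨subP_card.1, le_rfl⟩
    rw [card_faithful.1, ← hmul, mul_comm 22880] at h
    exact Nat.le_of_mul_le_mul_left h Nat.card_pos
  refine le_antisymm hle ?_
  by_contra hc
  have : Nat.card subP * subP.index < 9072 * (135 * (16 * 1)) * 22880 :=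
    Nat.mul_lt_mul_of_le_of_lt subP_card.2 (by omega) (by norm_num)
  omega

theorem printed_subP :
    ((Subgroup.closure ({Suz.a, Suz.b, Suz.c, Suz.d, Suz.f, Suz.g} : Set (FreeGroup Suz.Gen))).map
      (PresentedGroup.mk (coxRelators Suz.edges ∪ {r | r ∈ Suz.extra}))) = subP := by
  rw [MonoidHom.map_closure, subP, genSub]
  congr 1
  ext y
  simp only [Set.mem_ofPred_eq, Set.image_insert_eq, Set.image_singleton, Set.mem_insert_iff,
    Set.mem_singleton_iff]
  constructor
  · rintro (rfl | rfl | rfl | rfl | rfl | rfl)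
    exacts [⟨0, by norm_num, rfl⟩, ⟨1, by norm_num, rfl⟩, ⟨2, by norm_num, rfl⟩,
      ⟨3, by norm_num, rfl⟩, ⟨4, by norm_num, rfl⟩, ⟨5, by norm_num, rfl⟩]
  · rintro ⟨g, hg, rfl⟩
    interval_cases g <;>
      simp [genP, presGen, genOf, lettersP, PresentedGroup.of, Suz.a, Suz.b, Suz.c, Suz.d, Suz.f,
        Suz.g]

end CfsgLib.SuzPres
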