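import Cfsg.Agent.Lib.CosetEnum.Chain
import Cfsg.Agent.Lib.SuzPres.CheckA

/-!
Suborbits.
-/

set_option autoImplicit false
set_option linter.style.longLine false

namespace CfsgLib.SuzPres
open CfsgLib.CosetEnum

/-- tree of suborbit 0 -/
def subTree0 : List (ℕ × ℕ) := ([(47, 0), (47, 3), (47, 4), (47, 5), (76, 1), (76, 3), (76, 4), (76, 5), (72, 4), (72, 5), (79, 3), (79, 5), (82, 1), (99, 0), (99, 3), (99, 4), (99, 5), (112, 4), (112, 5), (121, 3), (121, 5), (81, 1), (115, 3), (115, 5), (117, 1), (125, 2), (125, 5), (128, 1), (130, 2), (146, 1), (146, 3), (146, 4), (146, 5), (149, 4), (149, 5), (152, 3), (152, 5), (155, 1), (172, 3), (172, 5), (116, 1), (184, 2), (184, 5), (127, 1), (129, 0), (129, 2), (176, 2), (176, 5), (178, 1), (180, 2), (192, 1), (192, 3), (192, 5), (195, 1), (197, 2), (201, 3), (228, 2), (228, 4), (223, 4), (223, 5), (226, 3), (226, 5), (231, 3), (231, 5), (234, 1), (237, 2), (237, 5), (240, 1), (200, 0), (200, 2), (263, 2), (263, 5), (177, 1), (179,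 0), (286, 1), (286, 3), (286, 5), (194, 1), (196, 0), (196, 2), (198, 2), (199, 3), (271, 1), (271, 3), (271, 5), (273, 1), (275, 2), (278, 3), (304, 3), (304, 5), (301, 4), (301, 5), (305, 1), (308, 2), (317, 2), (347, 4), (352, 3), (346, 3), (346, 5), (350, 2)] ++
    [(350, 5), (355, 2), (355, 5), (358, 1), (277, 0), (362, 1), (362, 3), (362, 5), (365, 1), (311, 0), (311, 2), (188, 1), (188, 2), (316, 3), (392, 1), (392, 3), (392, 5), (272, 1), (274, 0), (430, 0), (430, 3), (430, 5), (428, 4), (428, 5), (303, 1), (307, 0), (307, 2), (309, 2), (314, 1), (314, 3), (315, 2), (407, 3), (407, 5), (404, 2), (404, 4), (404, 5), (408, 1), (410, 2), (415, 2), (456, 2), (456, 4), (450, 1), (453, 5), (457, 1), (451, 0), (451, 2), (472, 1), (513, 3), (512, 2), (512, 5), (516, 5), (522, 1), (522, 3), (522, 5), (525, 1), (412, 0), (267, 1), (535, 0), (535, 3), (535, 5), (532, 4), (532, 5), (536, 1), (464, 0), (464, 2), (290, 1), (290, 2), (202, 2), (294, 1), (578, 0), (578, 3), (578,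 5), (576, 4), (576, 5), (406, 1), (409, 0), (409, 2), (638, 3), (638, 5), (634, 2), (634, 4), (634, 5), (639, 1), (632, 5), (455, 1), (461, 0), (461, 2), (462, 2), (467, 1), (416, 3), (438, 1), (603, 4), (603, 5), (593, 1), (598, 4), (598, 5), (600, 5), (604, 1), (594, 0), (594, 2)] ++
    [(614, 1), (661, 4), (298, 0), (298, 2), (670, 1), (662, 0), (449, 1), (449, 2), (688, 5), (749, 3), (749, 5), (534, 1), (764, 0), (764, 3), (764, 5), (761, 4), (761, 5), (765, 1), (610, 0), (610, 2), (396, 1), (586, 2), (781, 1), (654, 5), (776, 1), (782, 0), (782, 2), (433, 1), (433, 2), (313, 2), (436, 1), (318, 1), (318, 3), (853, 3), (853, 5), (849, 2), (849, 4), (849, 5), (854, 1), (847, 5), (602, 1), (607, 0), (607, 2), (608, 2), (609, 3), (930, 2), (930, 4), (930, 5), (938, 1), (447, 4), (926, 5), (931, 1), (683, 0), (683, 2), (668, 1), (674, 0), (681, 1), (681, 2), (682, 3), (644, 5), (884, 5), (400, 2), (880, 3), (880, 5), (775, 1), (885, 1), (592, 1), (592, 2), (901, 0), (443,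 2), (962, 0), (660, 1), (666, 0), (666, 2), (666, 5), (323, 1), (1084, 5), (763, 1), (780, 0), (1103, 1), (954, 5), (1098, 1), (1104, 0), (1104, 2), (581, 1), (581, 2), (899, 3), (1119, 0), (1119, 2), (1116, 0), (1116, 2), (1121, 1), (1121, 2), (994, 3), (466, 2), (469, 1), (1214, 2), (1214, 4), (1214, 5), (1222, 1)] ++
    [(618, 3), (618, 5), (697, 5), (1215, 1), (896, 0), (896, 2), (883, 1), (889, 0), (889, 2), (894, 1), (894, 2), (895, 3), (897, 1), (897, 3), (898, 2), (1282, 5), (958, 1), (1290, 0), (1283, 1), (982, 0), (991, 1), (991, 2), (993, 3), (976, 0), (981, 1), (989, 0), (989, 2), (990, 1), (990, 3), (1237, 5), (874, 0), (874, 2), (420, 1), (960, 1), (966, 0), (966, 2), (966, 5), (970, 2), (971, 1), (971, 3), (971, 5), (481, 0), (481, 5), (1097, 1), (1102, 0), (1449, 0), (1449, 2), (1446, 0), (1446, 2), (1451, 1), (1451, 2), (1261, 3), (612, 2), (857, 1), (779, 1), (779, 2), (1343, 3), (1460, 2), (1462, 3), (1466, 2), (1344, 1), (1344, 3), (940, 2), (905, 1), (905,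 3), (905, 5), (1003, 5), (478, 5), (906, 1), (1005, 1), (1249, 2), (1241, 0), (1241, 2), (1247, 1), (1247, 2), (1305, 1), (1307, 0), (1307, 2), (1328, 0), (1331, 1), (1327, 1), (1330, 0), (1330, 2), (1339, 3), (1234, 1), (619, 0), (1311, 0), (1311, 2), (1313, 2), (1314, 5), (1445, 2), (1101, 1), (1698, 2), (1639, 2), (1595, 1), (900, 1), (1702, 1), (1630, 0), (1630, 3), (1265, 3)] ++
    [(696, 5), (1583, 1), (1583, 2), (1615, 2), (1616, 2), (1605, 2), (1625, 0), (1625, 2), (1621, 2), (1444, 2), (1622, 1), (1697, 2), (1758, 1), (1696, 1), (1777, 1)])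

/-- suborbit 0, of length 416 -/
def subMask0 : ℕ := 0x338007f20c00000000007f00000000008000804eeb80200d31802000000000000000000000000006781e72000040000000000000080181fc0d83ce8a80048c000e3fe382258640c000000000000000000000079c81e600100200000000000000703c0fe0611c474e00140c40003f3fc23904d00262800000000000000079803a00600000000000e787fe047474601cc5000cff9d4744250000000001d034530000000247ffe3ae88d25039ffd11100000034694c00001a7ffba44444ff88800001a694800027fd111f10000d240007a2390008000691000000800000000000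

theorem subMask0_closed : allUp (maskClosed certA subMask0) 11 0 = true := by
  decide +kernel

theorem subMask0_tree :
    (reach certA certA.subs subTree0 (2 ^ 47) == some subMask0) = true := by decide +kernel

theorem subMask0_orbit : Suborbit certA 47 subMask0 :=
  ⟨⟨by decide +kernel, by decide +kernel⟩,
    fun x hx => allUp_spec subMask0_closed x (Nat.zero_le _)
      (by have : certA.N = 1782 := rfl; omega),
    _, beq_iff_eq.mp subMask0_tree⟩

theorem subMask0_size : popc subMask0 1782 = 416 := by decide +kernel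

/-- tree of suborbit 1 -/
def subTree1 : List (ℕ × ℕ) := ([(1, 1), (2, 0), (2, 2), (2, 5), (3, 1), (3, 2), (4, 3), (4, 5), (6, 2), (7, 1), (7, 3), (8, 2), (8, 4), (8, 5), (9, 1), (10, 1), (10, 3), (11, 0), (11, 3), (11, 5), (12, 2), (12, 4), (13, 1), (13, 4), (13, 5), (14, 5), (15, 1), (17, 0), (17, 3), (17, 5), (18, 2), (18, 4), (19, 1), (19, 3), (19, 5), (20, 2), (20, 4), (20, 5), (23, 1), (23, 4), (25, 0), (25, 4), (25, 5), (26, 3), (26, 5), (27, 1), (28, 1), (29, 2), (22, 3), (22, 5), (31, 2), (31, 4), (31, 5), (33, 1), (33, 4), (35, 4), (35, 5), (37, 1), (37, 3), (37, 4), (37, 5), (38, 5), (42, 0), (42, 4), (42, 5), (43, 3), (44, 1), (44, 4), (44, 5), (45, 3), (45, 5), (46, 1), (48, 2), (48, 5), (49, 1), (51, 2), (40, 4), (40, 5), (41, 1), (53, 1), (53, 4), (53, 5), (54, 5), (56, 4), (56, 5), (57, 3), (58, 5), (60, 0), (60, 3), (60, 4), (60, 5), (61, 2), (61, 4), (61, 5), (62, 3), (62, 5), (63, 1), (69, 4), (69, 5), (70, 3)] ++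
    [(70, 5), (73, 2), (64, 4), (64, 5), (74, 3), (74, 5), (75, 1), (77, 2), (77, 5), (78, 1), (83, 1), (83, 5), (84, 1), (66, 5), (67, 1), (87, 4), (87, 5), (88, 3), (88, 5), (89, 1), (91, 3), (91, 5), (93, 2), (95, 1), (95, 4), (95, 5), (96, 4), (96, 5), (97, 3), (97, 5), (98, 1), (100, 4), (100, 5), (101, 3), (101, 5), (102, 1), (103, 2), (103, 5), (104, 1), (106, 0), (110, 3), (110, 5), (111, 1), (113, 2), (113, 5), (118, 1), (105, 3), (105, 5), (107, 1), (119, 2), (119, 5), (120, 1), (122, 0), (122, 2), (123, 1), (123, 3), (123, 5), (124, 1), (131, 0), (131, 5), (132, 1), (133, 2), (108, 1), (109, 2), (134, 3), (134, 5), (135, 1), (136, 2), (136, 5), (137, 1), (138, 0), (139, 2), (139, 5), (142, 1), (143, 4), (143, 5), (144, 3), (144, 5), (145, 1), (147, 3), (147, 5), (148, 1), (150, 2), (150, 5), (151, 1), (153, 0), (156, 3), (156, 5), (141, 1), (157, 2), (157, 5), (158, 1), (159, 0), (159, 2), (160, 1), (160, 5), (161, 1), (163, 0), (165, 1), (170, 2)] ++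
    [(170, 5), (171, 1), (173, 0), (173, 2), (174, 1), (174, 3), (174, 5), (181, 0), (181, 5), (162, 2), (162, 5), (164, 1), (167, 0), (167, 2), (182, 1), (182, 3), (182, 5), (183, 1), (185, 0), (185, 2), (186, 1), (186, 2), (187, 3), (189, 0), (189, 3), (189, 5), (190, 4), (190, 5), (191, 1), (193, 2), (203, 1), (203, 5), (204, 1), (206, 0), (206, 2), (168, 2), (169, 3), (208, 2), (208, 5), (209, 1), (211, 1), (211, 5), (212, 1), (213, 0), (216, 1), (216, 3), (216, 5), (220, 0), (220, 5), (221, 3), (221, 5), (224, 2), (224, 5), (225, 1), (229, 2), (229, 5), (230, 1), (232, 0), (235, 1), (235, 3), (235, 5), (236, 1), (238, 0), (242, 2), (242, 5), (218, 1), (243, 1), (243, 3), (243, 5), (244, 1), (245, 0), (245, 2), (166, 1), (247, 0), (247, 5), (248, 1), (250, 0), (250, 2), (252, 1), (261, 1), (261, 3), (261, 5), (262, 1), (264, 0), (264, 2), (268, 0), (268, 3), (268, 5), (269, 2), (269, 4), (269, 5), (270, 1), (280, 1), (280, 5), (249, 1), (249, 5), (251, 1), (254, 0), (254,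 2), (257, 2)] ++
    [(258, 3), (283, 0), (283, 3), (283, 5), (284, 4), (284, 5), (285, 1), (287, 0), (287, 2), (288, 1), (288, 2), (292, 3), (295, 1), (295, 3), (295, 5), (296, 2), (296, 4), (296, 5), (297, 1), (299, 5), (300, 1), (302, 0), (302, 2), (319, 0), (319, 2), (319, 5), (320, 1), (322, 0), (322, 2), (325, 1), (325, 2), (328, 1), (328, 3), (328, 5), (329, 1), (331, 0), (331, 5), (332, 1), (333, 0), (333, 2), (336, 0), (336, 3), (336, 5), (337, 2), (337, 5), (338, 1), (341, 1), (341, 5), (344, 2), (344, 5), (348, 1), (348, 5), (349, 1), (353, 1), (353, 3), (353, 5), (354, 1), (356, 0), (359, 0), (359, 3), (359, 5), (360, 4), (360, 5), (361, 1), (363, 0), (363, 2), (367, 1), (367, 5), (339, 1), (368, 0), (368, 3), (368, 5), (369, 5), (370, 1), (371, 0), (371, 2), (253, 1), (372, 3), (373, 1), (373, 5), (374, 1), (376, 0), (376, 2), (379, 1), (379, 2), (380, 3), (389, 0), (389, 3), (389, 5), (390, 4), (390, 5), (391, 1), (393, 0), (393, 2), (395, 3), (397, 1), (397,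 3), (397, 5), (398, 2), (398, 4)] ++
    [(398, 5), (399, 1), (401, 1), (401, 4), (401, 5), (402, 5), (403, 1), (405, 0), (417, 0), (417, 2), (417, 5), (418, 1), (377, 0), (377, 5), (378, 1), (382, 0), (382, 2), (385, 2), (387, 3), (422, 1), (422, 3), (422, 5), (423, 2), (423, 4), (423, 5), (424, 1), (426, 5), (427, 1), (429, 0), (429, 2), (431, 1), (431, 2), (440, 0), (440, 2), (440, 3), (440, 5), (441, 2), (441, 4), (441, 5), (442, 1), (444, 3), (444, 4), (444, 5), (445, 5), (446, 1), (448, 0), (448, 2), (452, 1), (454, 0), (454, 2), (458, 1), (458, 2), (327, 2), (327, 5), (475, 3), (475, 5), (476, 1), (477, 0), (477, 2), (479, 1), (479, 2), (482, 0), (482, 2), (482, 5), (483, 1), (486, 0), (486, 3), (486, 5), (487, 5), (488, 1), (489, 2), (490, 1), (490, 5), (491, 1), (493, 0), (493, 2), (494, 2), (495, 3), (497, 1), (497, 3), (497, 5), (498, 2), (498, 5), (499, 1), (501, 1), (501, 5), (502, 1), (503, 0), (506, 0), (506, 2), (506, 5), (507, 1), (510, 1), (510, 3), (510,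 5), (514, 0), (514, 5), (515, 1), (517, 2), (519, 0)] ++
    [(519, 3), (519, 5), (520, 4), (520, 5), (521, 1), (523, 0), (523, 2), (526, 1), (526, 5), (527, 4), (527, 5), (528, 1), (530, 5), (531, 1), (533, 0), (533, 2), (537, 2), (538, 3), (539, 0), (539, 5), (504, 1), (505, 2), (540, 1), (540, 3), (540, 5), (541, 2), (541, 5), (542, 1), (544, 1), (545, 0), (545, 2), (381, 1), (381, 2), (546, 3), (547, 2), (548, 0), (548, 2), (548, 5), (549, 1), (551, 0), (551, 2), (555, 1), (555, 2), (556, 3), (561, 2), (562, 1), (562, 3), (563, 2), (563, 4), (570, 1), (570, 3), (570, 5), (571, 2), (571, 4), (571, 5), (572, 1), (574, 5), (575, 1), (577, 0), (577, 2), (579, 2), (580, 3), (582, 2), (583, 0), (583, 2), (583, 3), (583, 5), (584, 4), (584, 5), (585, 1), (587, 1), (587, 4), (587, 5), (588, 5), (589, 1), (591, 0), (595, 0), (595, 4), (595, 5), (596, 3), (596, 5), (597, 1), (599, 1), (601, 0), (601, 2), (605, 1), (343, 5), (616, 5), (508, 1), (617, 0), (617, 2), (558, 1), (558,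 5), (559, 1), (560, 0), (560, 2), (566, 2), (620, 0), (620, 3), (621, 2)] ++
    [(621, 4), (621, 5), (624, 3), (624, 4), (624, 5), (625, 5), (626, 1), (627, 0), (627, 2), (631, 1), (633, 0), (633, 2), (635, 1), (635, 2), (636, 3), (640, 2), (645, 2), (645, 3), (645, 5), (646, 3), (646, 5), (647, 2), (647, 4), (647, 5), (648, 1), (650, 1), (650, 4), (650, 5), (651, 5), (652, 1), (637, 0), (637, 2), (629, 4), (629, 5), (655, 5), (656, 1), (657, 1), (659, 0), (659, 2), (663, 1), (663, 2), (667, 0), (667, 2), (671, 1), (671, 2), (672, 3), (675, 0), (676, 1), (484, 3), (484, 5), (485, 1), (550, 2), (550, 5), (691, 1), (692, 0), (692, 2), (693, 1), (693, 2), (694, 3), (699, 0), (699, 2), (699, 5), (700, 1), (704, 2), (704, 5), (705, 1), (705, 5), (707, 0), (707, 5), (492, 3), (492, 5), (710, 2), (710, 5), (711, 1), (712, 1), (713, 0), (713, 2), (714, 3), (500, 5), (715, 1), (716, 0), (716, 2), (718, 1), (718, 2), (719, 3), (721, 1), (722, 4), (724, 0), (724, 2), (724, 5), (725,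 5), (726, 1), (727, 1), (728, 1), (730, 0), (733, 0), (733, 5), (734, 1), (735, 0), (735, 2)] ++
    [(736, 1), (740, 2), (740, 5), (741, 5), (742, 1), (743, 0), (743, 2), (746, 0), (746, 3), (746, 5), (747, 5), (748, 1), (751, 5), (753, 0), (755, 1), (755, 3), (755, 5), (756, 2), (756, 4), (756, 5), (757, 1), (759, 5), (760, 1), (762, 0), (762, 2), (565, 2), (766, 3), (767, 5), (770, 1), (771, 0), (773, 1), (774, 0), (774, 2), (777, 1), (777, 2), (783, 1), (783, 3), (784, 4), (785, 5), (786, 1), (738, 0), (738, 2), (739, 3), (788, 3), (788, 5), (789, 5), (790, 1), (792, 3), (793, 1), (795, 0), (795, 2), (798, 0), (798, 2), (799, 1), (799, 2), (800, 3), (496, 2), (564, 1), (564, 3), (802, 2), (802, 4), (803, 1), (803, 3), (804, 5), (805, 3), (805, 5), (806, 1), (807, 0), (807, 2), (808, 1), (808, 2), (813, 0), (813, 2), (813, 5), (814, 1), (814, 3), (816, 4), (825, 1), (825, 3), (826, 0), (826, 3), (826, 5), (827, 4), (828, 4), (835, 2), (835, 4), (835, 5), (836, 1), (838,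 5), (839, 5), (840, 1), (842, 0), (842, 2), (846, 1), (848, 0), (848, 2), (850, 1), (850, 2), (851, 3), (855, 1)] ++
    [(855, 3), (858, 1), (858, 3), (860, 5), (529, 4), (861, 1), (862, 5), (863, 1), (852, 0), (852, 2), (867, 1), (869, 0), (869, 2), (872, 1), (876, 3), (878, 5), (881, 2), (882, 0), (882, 2), (886, 2), (887, 3), (509, 1), (731, 1), (744, 0), (744, 2), (902, 1), (902, 2), (903, 3), (820, 0), (820, 2), (822, 1), (822, 2), (823, 3), (910, 3), (911, 2), (911, 4), (912, 4), (912, 5), (913, 5), (425, 4), (425, 5), (915, 5), (916, 1), (917, 1), (918, 0), (918, 2), (920, 1), (920, 2), (921, 3), (925, 0), (925, 2), (927, 1), (927, 2), (928, 3), (932, 0), (932, 2), (932, 5), (933, 1), (933, 3), (935, 2), (939, 3), (794, 3), (794, 5), (941, 2), (941, 4), (941, 5), (791, 2), (944, 1), (944, 3), (944, 5), (945, 5), (949, 4), (950, 5), (952, 1), (934, 1), (934, 2), (844, 5), (923, 1), (956, 1), (957, 0), (957, 2), (959, 0), (959, 2), (967, 1), (973, 1), (973, 2), (974,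 3), (977, 0), (977, 2), (922, 4), (983, 0), (375, 5), (708, 1), (709, 0), (709, 2), (997, 1), (997, 2), (999, 0), (999, 2), (999, 5)] ++
    [(1000, 1), (1000, 3), (1001, 4), (1007, 2), (1007, 5), (1008, 1), (1008, 3), (1008, 5), (1011, 0), (1011, 5), (1015, 5), (1006, 1), (1016, 5), (1017, 1), (1018, 5), (553, 5), (717, 1), (821, 1), (1025, 0), (1025, 2), (1026, 0), (1026, 2), (1027, 1), (1027, 2), (1028, 3), (1030, 4), (1031, 0), (1031, 2), (1032, 1), (1032, 2), (1033, 3), (1036, 0), (1036, 2), (1036, 5), (1037, 1), (1037, 3), (1039, 2), (1039, 4), (796, 0), (1045, 5), (841, 5), (1046, 1), (1047, 1), (1048, 0), (1048, 2), (1049, 0), (1052, 1), (787, 5), (1056, 1), (1057, 0), (1057, 2), (1058, 1), (1058, 2), (1059, 3), (1061, 0), (1069, 5), (1071, 1), (1072, 2), (1010, 2), (1074, 3), (1080, 5), (1081, 2), (1081, 5), (1083, 1), (1085, 0), (772, 1), (1087, 5), (1088, 2), (1091, 3), (1091, 5), (1092, 1), (1093, 0), (1095, 1), (1096, 0), (1096, 2), (1099, 1), (1099, 2), (1100,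 3), (832, 1), (832, 3), (1105, 4), (1107, 2), (1110, 2), (1112, 1), (1112, 2), (1113, 3), (1117, 0), (1117, 2), (1117, 5), (1118, 1), (1123, 0), (1123, 3), (1123, 5), (1124, 4), (1126, 1), (1067, 0), (1067, 2), (1065, 1), (1065, 2), (1066, 3)] ++
    [(1020, 5), (1128, 1), (1129, 1), (1130, 0), (1130, 2), (1131, 2), (1132, 0), (1134, 1), (1134, 2), (1135, 3), (1138, 1), (1138, 2), (1141, 0), (1141, 2), (1141, 5), (1142, 1), (1142, 3), (1144, 2), (1144, 4), (723, 1), (831, 0), (831, 3), (831, 5), (830, 4), (1043, 4), (1136, 0), (1136, 3), (1136, 5), (1148, 4), (1149, 1), (1150, 5), (1151, 1), (1152, 0), (1152, 2), (1153, 1), (1153, 2), (1154, 3), (1064, 0), (1064, 2), (1064, 5), (1156, 1), (1161, 2), (1161, 5), (1162, 1), (1162, 5), (1183, 5), (1185, 1), (1185, 3), (1185, 5), (1186, 2), (1186, 4), (1186, 5), (1197, 5), (1198, 5), (1201, 1), (1202, 1), (1203, 0), (1203, 2), (1205, 1), (1205, 2), (1206, 3), (1210, 0), (1210, 2), (1211, 2), (1212, 3), (1217, 1), (1217, 3), (1219,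 2), (1219, 4), (1223, 0), (1223, 5), (1227, 0), (1227, 3), (1227, 5), (1229, 1), (1213, 0), (1213, 2), (1218, 1), (1218, 2), (1220, 3), (1230, 0), (1233, 2), (843, 0), (1235, 2), (1238, 2), (1239, 3), (1242, 3), (1055, 2), (745, 2), (1262, 2), (1263, 1), (1174, 1), (1174, 2), (1175, 3), (1178, 0), (1178, 2), (1178, 5), (1179, 1), (1179, 3), (1268, 2)] ++
    [(1269, 3), (1271, 5), (630, 1), (1273, 1), (1275, 0), (1275, 2), (1277, 1), (673, 3), (677, 2), (677, 5), (1169, 1), (1169, 3), (1166, 2), (1279, 1), (1279, 2), (1284, 0), (1284, 2), (1284, 5), (1171, 2), (810, 3), (1291, 4), (1292, 1), (1292, 3), (1292, 5), (1295, 3), (1296, 5), (988, 2), (988, 5), (1289, 1), (1208, 1), (986, 2), (1304, 0), (1304, 2), (1309, 3), (1316, 0), (1322, 2), (1323, 3), (1325, 4), (1300, 2), (554, 1), (1021, 0), (1021, 2), (1022, 2), (1023, 3), (1345, 2), (1346, 1), (1079, 2), (1347, 1), (1347, 3), (1347, 5), (1348, 0), (1348, 3), (1348, 5), (1349, 4), (1354, 1), (1354, 3), (1354, 5), (1356, 0),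 (1356, 3), (1356, 5), (1357, 2), (1357, 4), (1357, 5), (1358, 1), (1360, 5), (1077, 2), (1364, 1), (1365, 0), (1366, 1), (811, 1), (1035, 0), (1035, 2), (1177, 0), (1372, 1), (1372, 2), (1375, 2), (1376, 2), (1377, 1), (1377, 3), (1379, 4), (1383, 1), (1388, 2), (1389, 1), (1389, 3), (1389, 5), (1362, 0), (1362, 3), (1362, 5), (1160, 2), (1392, 3), (1392, 4), (1398, 1), (1204, 1), (1399, 0), (1399, 2), (1396, 2), (1401, 3), (1127, 1), (1407, 0), (1408, 2)] ++
    [(1140, 3), (1409, 1), (1029, 4), (1421, 0), (1421, 2), (1423, 3), (1359, 1), (1359, 3), (1424, 2), (1424, 4), (1431, 5), (1433, 2), (1109, 2), (1436, 1), (1437, 2), (1440, 2), (1442, 2), (1447, 5), (1196, 5), (1193, 4), (1246, 5), (1467, 1), (1468, 4), (1472, 0), (1163, 1), (1163, 2), (1419, 3), (1417, 1), (1417, 3), (1418, 2), (1368, 1), (1474, 0), (1474, 2), (985, 5), (1485, 1), (1176, 2), (1176, 5), (1487, 1), (1487, 3), (1487, 5), (1489, 2), (1492, 3), (1492, 4), (1044, 5), (1194, 5), (1192, 2), (1192, 5), (1498,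 2), (1500, 3), (1478, 3), (1503, 2), (1503, 4), (1053, 5), (893, 5), (1414, 1), (1415, 1), (1536, 2), (1536, 5), (1537, 1), (1555, 0), (1519, 1), (1519, 3), (1565, 2), (1567, 3), (1568, 2), (1568, 4), (1495, 5), (1574, 1), (1574, 3), (1562, 2), (1564, 1), (1564, 2), (1566, 3), (1252, 0), (1252, 2), (1252, 5), (1523, 1), (1580, 3), (1137, 2), (1596, 1), (1596, 3), (1524, 2), (1525, 1), (1525, 3), (1528, 5), (1531, 0), (1531, 3), (1531, 5), (1597, 1), (924, 2), (1600, 1), (1520, 3), (817, 2), (1602, 2), (1603, 2), (1604, 1), (1608, 3), (1337, 1), (1337, 3), (1337, 5)] ++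
    [(1250, 2), (1335, 3), (1614, 3), (1613, 1), (812, 0), (812, 2), (1370, 2), (1429, 1), (1429, 3), (1634, 5), (1371, 1), (1641, 0), (1641, 3), (1642, 2), (1642, 4), (1642, 5), (1644, 3), (1645, 2), (1645, 4), (1645, 5), (1637, 1), (1647, 1), (1647, 3), (1649, 1), (1651, 0), (1402, 0), (1402, 3), (1557, 2), (1675, 3), (1674, 3), (1473, 2), (1245, 2), (1683, 3), (1684, 2), (1688, 1), (1456, 3), (1690, 2), (1515, 0), (1514, 3), (1680, 3), (1681, 2), (1526, 3), (1526, 5), (1711, 3), (1712, 2), (1712, 5), (1713, 3), (1716, 2), (1709, 2), (1188, 3), (1677, 3), (1740, 2), (1509, 3), (1209, 2), (1278, 3), (1752, 1), (1629, 3), (1593, 2), (1745, 2), (1159, 3), (1731, 4), (1729, 1), (1764, 1), (1720, 5)])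

/-- suborbit 1, of length 1365 -/
def subMask1 : ℕ := 0xc7ff80df3ffffffffff80ffffffffff7fff7fb1147fdff2ce7fdffffffffffffffffffffffffff987e18dffffbffffffffffffff7fe7e03f27c31757ffb73fff1c01c7dda79bf3ffffffffffffffffffffff8637e19ffeffdffffffffffffff8fc3f01f9ee3b8b1ffebf3bfffc0c03dc6fb2ffd9d7fffffffffffffff867fc5ff9fffffffffff187801fb8b8b9fe33afff30062b8bbdafffffffffe2fcbacfffffffdb8001c51772dafc6002eeeffffffcb96b3ffffe580045bbbbb00777ffffe596b7fffd802eee0effff2dbfff85dc6fff7fff96effffff7ffffffffffe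

theorem subMask1_closed : allUp (maskClosed certA subMask1) 11 0 = true := by
  decide +kernel

theorem subMask1_tree :
    (reach certA certA.subs subTree1 (2 ^ 1) == some subMask1) = true := by decide +kernel

theorem subMask1_orbit : Suborbit certA 1 subMask1 :=
  ⟨⟨by decide +kernel, by decide +kernel⟩,
    fun x hx => allUp_spec subMask1_closed x (Nat.zero_le _)
      (by have : certA.N = 1782 := rfl; omega),
    _, beq_iff_eq.mp subMask1_tree⟩

theorem subMask1_size : popc subMask1 1782 = 1365 := by decide +kernel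

theorem suborbits : Suborbits certA [subMask0, subMask1] where
  orbit := by
    simp only [List.forall_mem_cons]
    exact ⟨⟨_, subMask0_orbit⟩, ⟨_, subMask1_orbit⟩, by simp⟩
  cover x hx := allUp_spec (f := fun x => !(Nat.blt x 1782) || maskCover certA [subMask0, subMask1] x)
    (k := 11) (base := 0) (by decide +kernel) x (Nat.zero_le _)
      (by have : certA.N = 1782 := rfl; omega) |> fun h => by
        rw [show Nat.blt x 1782 = true by
          rw [Nat.blt_eq]; exact hx] at h
        simpa using h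
  unions := by decide +kernel

end CfsgLib.SuzPres
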