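import Cfsg.Prelude.Def_Spor_Suz
import Cfsg.Prelude.Def_Sporadic
import Cfsg.Agent.Lib.CosetEnum.Presented
import Cfsg.Agent.Lib.CosetEnum.Nested
import Cfsg.Agent.Lib.SuzPres.SuborbitA
import Cfsg.Agent.Lib.SuzPres.DataChain
import Cfsg.Agent.Lib.SuzPres.CheckB
import Cfsg.Agent.Lib.SuzPres.CheckC
import Cfsg.Agent.Lib.SuzPres.CheckE
import Cfsg.Agent.Lib.SuzPres.CheckF
import Cfsg.Agent.Lib.SuzPres.CheckX

/-!
The presented Suzuki group: index 1782, order 448345497600, simplicity.
-/

set_option autoImplicit false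

namespace CfsgLib.SuzPres

open CfsgLib.CosetEnum Cfsg.Spor

/-- the generators in order -/
def letters : List Suz.Gen := [.a, .b, .c, .d, .e, .f, .g]

/-- the further relators as words -/
def extraW : List (List ℕ) := [
  [0, 3, 2, 3, 2, 3, 2, 3, 2],
  [0, 6, 5, 6, 5],
  [0, 1, 2, 5, 0, 1, 2, 5, 0, 1, 2, 5, 0, 1, 2, 5, 0, 1, 2, 5],
  [1, 5, 6, 1, 5, 6, 1, 5, 6, 1, 5, 6, 1, 5, 6],
  [1, 2, 3, 2, 3, 1, 2, 3, 2, 3, 1, 2, 3, 2, 3, 1, 2, 3, 2, 3, 1, 2, 3, 2, 3, 4,
   1, 2, 3, 2, 3, 1, 2, 3, 2, 3, 1, 2, 3, 2, 3, 1, 2, 3, 2, 3, 1, 2, 3, 2, 3, 4,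
   1, 2, 3, 2, 3, 1, 2, 3, 2, 3, 1, 2, 3, 2, 3, 1, 2, 3, 2, 3, 1, 2, 3, 2, 3, 4]]

theorem extraWords : ExtraWords letters Suz.extra extraW := by
  unfold ExtraWords Suz.extra extraW
  refine .cons ?_ (.cons ?_ (.cons ?_ (.cons ?_ (.cons ?_ .nil))))
  all_goals
    intro P _ f hf
    have hi : ∀ x, (f x)⁻¹ = f x := fun x => inv_eq_of_mul_eq_one_right (hf x)
    simp [prodW, genOf, letters, Suz.a, Suz.b, Suz.c, Suz.d, Suz.e, Suz.f, Suz.g, pow_succ,
      mul_assoc, hi]

theorem mem_letters : ∀ x, x ∈ letters := by intro x; cases x <;> decide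

theorem nodes : ∀ x, x ∈ coxNodes Suz.edges := by intro x; cases x <;> decide

/-- the numbered generators -/
def gen : ℕ → Suz := presGen letters Suz.edges Suz.extra

theorem gen_sq (g : ℕ) : gen g * gen g = 1 := by
  unfold gen presGen genOf
  split
  · exact of_sq (nodes _)
  · simp

theorem presA : presOK letters Suz.edges extraW certA = true := by decide +kernel

/-- the subgroup generated by the first six generators -/
def subA : Subgroup Suz := Subgroup.closure {y | ∃ w ∈ certA.subs, prodW gen w = y}

theorem modelA : Model certA subA gen :=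
  presModel nodes extraWords presA _ fun w hw => Subgroup.subset_closure ⟨w, hw, rfl⟩

theorem exists_action : ∃ ρ : Suz →* Equiv.Perm (Fin certA.N),
    ∀ g < certA.K, ρ (gen g) = letterPerm certA_complete certA_action g :=
  exists_presAction mem_letters (by decide) extraWords presA certA_complete certA_action

/-- the action on the 1782 cosets -/
noncomputable def rho : Suz →* Equiv.Perm (Fin certA.N) := exists_action.choose

theorem setupA : Setup certA subA gen rho where
  complete := certA_complete
  action := certA_action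
  model := modelA
  gen_top := presGen_top mem_letters rfl
  rho_gen := exists_action.choose_spec
  H_eq := rfl

theorem subA_eq : subA = genSub gen 6 := subs_closure_genSub (by decide +kernel)

theorem blockF : blockOK certF certA.rels 2 2 = true := by decide +kernel
theorem blockE : blockOK certE certA.rels 0 4 = true := by decide +kernel
theorem blockC : blockOK certC certA.rels 0 5 = true := by decide +kernel
theorem blockB : blockOK certB certA.rels 0 6 = true := by decide +kernel

theorem subA_card : Finite subA ∧ Nat.card subA ≤ 416 * (280 * (135 * (16 * 1))) := by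
  have hr : ∀ r ∈ certA.rels, prodW gen r = 1 := modelA.rel
  have hF := block_card_le gen_sq hr certF_complete blockF (subs_closure_bot rfl)
  have hE := block_step gen_sq hr certE_complete blockE (d := 2) (k := 2) (by decide +kernel)
    le_rfl hF
  have hC := block_step gen_sq hr certC_complete blockC (d := 0) (k := 4) (by decide +kernel)
    (by norm_num) hE
  have hB := block_step gen_sq hr certB_complete blockB (d := 0) (k := 5) (by decide +kernel)
    (by norm_num) hC
  rw [genSub_blockGen_zero] at hB
  rw [subA_eq]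
  exact hB

theorem finite_and_card : Finite Suz ∧ Nat.card Suz ≤ 448345497600 := by
  haveI := subA_card.1
  have h := finite_card_le certA_complete modelA _ subA_card.2
  rw [setupA.gen_top] at h
  exact ⟨haveI := h.1; Finite.of_equiv _ Subgroup.topEquiv.toEquiv,
    by rw [← Nat.card_congr Subgroup.topEquiv.toEquiv]; exact h.2⟩

instance : Finite Suz := finite_and_card.1

theorem chain_ok : chainOK certA levels = true := by decide +kernel

theorem chain_size : chainSize certA levels = 448345497600 := by decide +kernel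

theorem card_faithful : Nat.card Suz = 448345497600 ∧ Function.Injective rho :=
  setupA.card_eq finite_and_card.2 chain_ok chain_size

theorem power_fix : allUp (fun x => !(Nat.blt x 1782) ||
    Nat.beq (certA.run x (certA.revInv (List.replicate 11 [1, 6, 5, 3, 4, 2]).flatten)) x) 11 0 =
      true := by decide +kernel

theorem power_eq_one : prodW gen [1, 6, 5, 3, 4, 2] ^ 11 ^ 1 = 1 := by
  apply card_faithful.2
  have e : prodW gen [1, 6, 5, 3, 4, 2] ^ 11 ^ 1 =
      prodW gen (List.replicate 11 [1, 6, 5, 3, 4, 2]).flatten := by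
    simp [prodW, List.replicate, pow_succ, mul_assoc]
  rw [e, map_one]
  refine Equiv.ext fun x => Fin.ext ?_
  rw [setupA.rho_prodW (by decide)]
  have h := allUp_spec power_fix x (Nat.zero_le _)
    (by have := x.2; have : certA.N = 1782 := rfl; omega)
  rw [show Nat.blt x 1782 = true by rw [Nat.blt_eq]; exact x.2] at h
  simpa using h

theorem isSuz : Cfsg.IsSuz Suz := by
  refine ⟨setupA.isSimpleGroup card_faithful.2 (by rw [card_faithful.1]; norm_num) suborbits
    (p := 11) (a := 1) (by norm_num) (by decide +kernel) (by rw [card_faithful.1]; norm_num)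
    power_eq_one certX_complete rfl rfl rfl rfl (by decide +kernel), card_faithful.1⟩

end CfsgLib.SuzPres

namespace CfsgLib.SuzPres

open CfsgLib.CosetEnum Cfsg.Spor

theorem printed_subA :
    ((Subgroup.closure ({Suz.a, Suz.b, Suz.c, Suz.d, Suz.e, Suz.f} : Set (FreeGroup Suz.Gen))).map
      (PresentedGroup.mk (coxRelators Suz.edges ∪ {r | r ∈ Suz.extra}))) = subA := by
  rw [MonoidHom.map_closure, subA]
  congr 1
  ext y
  have hs : certA.subs = [[0], [1], [2], [3], [4], [5]] := rfl
  simp only [Set.mem_ofPred_eq, hs, List.mem_cons, List.not_mem_nil, or_false, exists_eq_or_imp,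
    exists_eq_left, Set.image_insert_eq, Set.image_singleton, Set.mem_insert_iff,
    Set.mem_singleton_iff, prodW_cons, prodW_nil, mul_one]
  simp only [gen, presGen, genOf, letters, List.length_cons, List.length_nil]
  simp [eq_comm, PresentedGroup.of, Suz.a, Suz.b, Suz.c, Suz.d, Suz.e, Suz.f]

theorem index_and_orbits :
    let H := (Subgroup.closure ({Suz.a, Suz.b, Suz.c, Suz.d, Suz.e, Suz.f} :
      Set (FreeGroup Suz.Gen))).map (PresentedGroup.mk (coxRelators Suz.edges ∪ {r | r ∈ Suz.extra}))
    H.index = 1782 ∧ ∃ q₁ q₂ : Suz ⧸ H,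
      (MulAction.orbit H q₁).ncard = 416 ∧ (MulAction.orbit H q₂).ncard = 1365 := by
  intro H
  have e : H = subA := printed_subA
  rw [e]
  obtain ⟨q₁, -, h₁⟩ := setupA.exists_orbit subMask0_orbit
  obtain ⟨q₂, -, h₂⟩ := setupA.exists_orbit subMask1_orbit
  exact ⟨setupA.index_eq.trans rfl, q₁, q₂, h₁.trans subMask0_size, h₂.trans subMask1_size⟩

end CfsgLib.SuzPres
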