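import Cfsg.Agent.Lib.SuzPres.MultLift
import Cfsg.Agent.Lib.Schur.OrderTwo

/-!
Stem double covers of the Suzuki group are not trivial on the second class of involutions.
-/

set_option autoImplicit false
set_option linter.style.haveILetI false

namespace CfsgLib.SuzPres.Mult

open CfsgLib.CosetEnum CfsgLib.Schur.InvolLift Cfsg.Spor

variable {E : Type} [Group E] {τ : E →* Suz}

theorem prodW_one (g : ℕ) : prodW gen [g] = gen g := by simp

theorem wit_spec {z : List ℕ × ℕ × List ℕ} (h : z ∈ witList) :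
    (z.2.1 = 0 ∨ z.2.1 = 3) ∧ prodW gen z.1 * prodW gen z.1 = 1 ∧
      prodW gen z.2.2 * prodW gen z.1 = gen z.2.1 * prodW gen z.2.2 := by
  have h' := List.all_eq_true.mp wit_ok z h
  simp only [Bool.and_eq_true, Bool.or_eq_true, List.all_append] at h'
  obtain ⟨⟨⟨⟨h1, h2⟩, h3⟩, h4⟩, h5⟩ := h'
  have hk : z.2.1 = 0 ∨ z.2.1 = 3 := h3.imp Nat.eq_of_beq_eq_true Nat.eq_of_beq_eq_true
  refine ⟨hk, ?_, ?_⟩
  · rw [← prodW_append, eq_sameM (List.all_append ▸ by rw [h1]; rfl) rfl h4, prodW_nil]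
  · rw [← prodW_append, ← prodW_cons]
    refine eq_sameM (List.all_append ▸ by rw [h2, h1]; rfl) ?_ h5
    rw [List.all_cons, h2]
    rcases hk with e | e <;> rw [e] <;> rfl

theorem q_wit (D : Double τ) {z : List ℕ × ℕ × List ℕ} (h : z ∈ witList) :
    D.q (prodW gen z.1) = D.q (gen z.2.1) := by
  obtain ⟨-, h2, h3⟩ := wit_spec h
  exact (D.q_conj h3 h2).symm

theorem q_first (D : Double τ) : D.q (gen 0) = 1 := by
  have hm : ∀ t : List ℕ × ℕ × List ℕ, (witList.contains t) = true → t ∈ witList := fun t h => by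
    simpa using h
  have q0 : ∀ (t z : List ℕ), witList.contains (t, 0, z) = true → D.q (prodW gen t) = D.q (gen 0) :=
    fun t z h => q_wit D (hm _ h)
  have hc : ∀ u v : List ℕ, u.all (fun g => Nat.blt g 7) = true → v.all (fun g => Nat.blt g 7) = true →
      sameM (v ++ u) (u ++ v) = true → prodW gen v * prodW gen u = prodW gen u * prodW gen v := by
    intro u v hu hv h
    rw [← prodW_append, ← prodW_append]
    exact eq_sameM (List.all_append ▸ by rw [hv, hu]; rfl) (List.all_append ▸ by rw [hu, hv]; rfl) h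
  have h7 := D.q_seven (gen_sq 0) (gen_sq 2) (gen_sq 5)
    (by simpa using hc [0] [2] rfl rfl (by decide +kernel))
    (by simpa using hc [0] [5] rfl rfl (by decide +kernel))
    (by simpa using hc [2] [5] rfl rfl (by decide +kernel))
  have e2 := q0 [2] [1, 0, 1, 2, 0, 1] (by decide +kernel)
  have e5 := q0 [5] [1, 0, 1, 5, 0, 1] (by decide +kernel)
  have e02 := q0 [0, 2] [1, 0, 2, 1, 0, 1] (by decide +kernel)
  have e05 := q0 [0, 5] [1, 0, 5, 1, 0, 1] (by decide +kernel)
  have e25 := q0 [2, 5] [1, 0, 1, 2, 1, 5, 1, 2, 0, 1, 6] (by decide +kernel)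
  have e025 := q0 [0, 2, 5] [1, 0, 2, 1, 5, 1, 2, 1, 0, 1] (by decide +kernel)
  simp only [prodW_cons, prodW_nil, mul_one] at e2 e5 e02 e05 e25 e025
  rw [← mul_assoc] at e025
  rw [e2, e5, e02, e05, e25, e025] at h7
  have hqq : D.q (gen 0) * D.q (gen 0) = 1 := D.sq (D.q_mem_ker (gen_sq 0))
  simp only [hqq, one_mul] at h7
  exact h7

theorem q_all (D : Double τ) (hd : SqOne τ (gen 3)) {z : List ℕ × ℕ × List ℕ} (h : z ∈ witList) :
    SqOne τ (prodW gen z.1) := by
  rw [D.sqOne_iff, q_wit D h]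
  rcases (wit_spec h).1 with e | e <;> rw [e]
  exacts [q_first D, D.sqOne_iff.1 hd]

theorem adjust (D : Double τ) {m : ℕ} (hm : Odd m) {X Y : E} (h : (X * Y) ^ m ∈ τ.ker)
    (hY : Y * Y = 1) : ∃ Y' : E, τ Y' = τ Y ∧ Y' * Y' = 1 ∧ (X * Y') ^ m = 1 := by
  set s := (X * Y) ^ m with hs
  refine ⟨Y * s, ?_, ?_, ?_⟩
  · rw [map_mul, MonoidHom.mem_ker.1 h, mul_one]
  · rw [mul_assoc, ← mul_assoc s, ← D.comm h Y, mul_assoc Y s s, D.sq h, mul_one, hY]
  · have hc : Commute (X * Y) s := D.comm h _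
    obtain ⟨a, ha⟩ := hm
    rw [← mul_assoc X, hc.mul_pow, ← hs, ha, pow_succ s, pow_mul, sq, D.sq h, one_pow, one_mul, D.sq h]

theorem mul_pow_ker (D : Double τ) {s X : E} (hs : s ∈ τ.ker) : X * s * (X * s) = X * X := by
  rw [mul_assoc X s, ← mul_assoc s X s, ← D.comm hs X, mul_assoc X s s, D.sq hs, mul_one]

/-- Shifting the letters of a word by central involutions. -/
theorem prodW_shift (D : Double τ) {L : ℕ → E} {s : E} (hs : s ∈ τ.ker) (P : ℕ → Bool) :
    ∀ w, prodW (fun g => if P g then L g * s else L g) w = prodW L w * s ^ (w.countP P)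
  | [] => by simp
  | g :: w => by
    have hc : ∀ k : ℕ, ∀ y : E, s ^ k * y = y * s ^ k := fun k y => (D.comm (pow_mem hs k) y).symm
    rw [prodW_cons, prodW_shift D hs P w, prodW_cons, List.countP_cons]
    cases hP : P g
    · simp [mul_assoc]
    · simp only [if_true, pow_succ]
      rw [mul_assoc (L g) s, ← mul_assoc s, ← D.comm hs (prodW L w), mul_assoc (prodW L w),
        ← pow_succ', ← pow_succ, ← mul_assoc]

theorem pairPow_eq (L : ℕ → E) (i j m : ℕ) : (L i * L j) ^ m = prodW L (pairWord i j m) :=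
  (prodW_pairWord L i j m).symm

/-- Normalised lifts. -/
theorem exists_lifts (D : Double τ) (hd : SqOne τ (gen 3)) :
    ∃ L : ℕ → E, (∀ g, τ (L g) = gen g) ∧ (∀ g, L g * L g = 1) ∧
      (∀ i j, (i, j) ∈ [(0, 1), (1, 2), (1, 5), (1, 6), (3, 4)] → (L i * L j) ^ lab i j = 1) ∧
      prodW L rOne = 1 ∧ prodW L rFive = 1 := by
  have hgen : ∀ g, g < 7 → SqOne τ (gen g) := by
    intro g hg
    have h : ∀ g < 7, ∃ z ∈ witList, z.1 = [g] := by decide +kernel
    obtain ⟨z, hz, e⟩ := h g hg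
    have := q_all D hd hz
    rwa [e, prodW_one] at this
  choose L0 hL0 using fun g : ℕ => D.surj (gen g)
  have pk : ∀ {X Y : E} {i j : ℕ}, i < 7 → j < 7 → i ≤ j → τ X = gen i → τ Y = gen j →
      (X * Y) ^ lab i j ∈ τ.ker := by
    intro X Y i j hi hj hij hX hY
    have h := List.all_eq_true.mp knownBase_ok _ (mem_base hi hj hij)
    rw [Bool.and_eq_true] at h
    rw [MonoidHom.mem_ker, map_pow, map_mul, hX, hY, ← prodW_pairWord, eq_sameM h.1 rfl h.2, prodW_nil]
  have pk' : ∀ {X Y : E} {i j : ℕ}, i < 7 → j < 7 → i ≤ j → τ X = gen i → τ Y = gen j →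
      Y * Y = 1 → X * X = 1 → (Y * X) ^ lab i j ∈ τ.ker := by
    intro X Y i j hi hj hij hX hY hY2 hX2
    have h := inv_mem (pk hi hj hij hX hY)
    rwa [← inv_pow, mul_inv_rev, inv_eq_of_mul_eq_one_right hX2, inv_eq_of_mul_eq_one_right hY2] at h
  have sqg : ∀ {X : E} {g : ℕ}, g < 7 → τ X = gen g → X * X = 1 := fun hg hX => hgen _ hg _ hX
  obtain ⟨B, tB, B2, eB⟩ := adjust D (m := lab 1 2) (by decide)
    (pk' (X := L0 1) (Y := L0 2) (i := 1) (j := 2) (by norm_num) (by norm_num) (by norm_num) (hL0 1)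
      (hL0 2) (sqg (by norm_num) (hL0 2)) (sqg (by norm_num) (hL0 1))) (sqg (by norm_num) (hL0 1))
  rw [hL0] at tB
  have eB' : (B * L0 2) ^ lab 1 2 = 1 := by
    rw [← inv_eq_one, ← inv_pow, mul_inv_rev, inv_eq_of_mul_eq_one_right (sqg (by norm_num) (hL0 2)),
      inv_eq_of_mul_eq_one_right B2]
    exact eB
  obtain ⟨A, tA, A2, eA⟩ := adjust D (m := lab 0 1) (by decide)
    (pk' (X := L0 0) (Y := B) (i := 0) (j := 1) (by norm_num) (by norm_num) (by norm_num) (hL0 0)
      tB B2 (sqg (by norm_num) (hL0 0))) (sqg (by norm_num) (hL0 0))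
  rw [hL0] at tA
  have eA' : (A * B) ^ lab 0 1 = 1 := by
    rw [← inv_eq_one, ← inv_pow, mul_inv_rev, inv_eq_of_mul_eq_one_right B2,
      inv_eq_of_mul_eq_one_right A2]
    exact eA
  obtain ⟨F, tF, F2, eF⟩ := adjust D (m := lab 1 5) (by decide)
    (pk (X := B) (Y := L0 5) (i := 1) (j := 5) (by norm_num) (by norm_num) (by norm_num) tB (hL0 5))
    (sqg (by norm_num) (hL0 5))
  rw [hL0] at tF
  obtain ⟨G, tG, G2, eG⟩ := adjust D (m := lab 1 6) (by decide)
    (pk (X := B) (Y := L0 6) (i := 1) (j := 6) (by norm_num) (by norm_num) (by norm_num) tB (hL0 6))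
    (sqg (by norm_num) (hL0 6))
  rw [hL0] at tG
  obtain ⟨K, tK, K2, eK⟩ := adjust D (m := lab 3 4) (by decide)
    (pk (X := L0 3) (Y := L0 4) (i := 3) (j := 4) (by norm_num) (by norm_num) (by norm_num) (hL0 3)
      (hL0 4)) (sqg (by norm_num) (hL0 4))
  rw [hL0] at tK
  set L1 : ℕ → E := fun g => [A, B, L0 2, L0 3, K, F, G].getD g 1 with hL1
  have t1 : ∀ g, τ (L1 g) = gen g := by
    intro g
    rcases Nat.lt_or_ge g 7 with hg | hg
    · interval_cases g <;> simp [L1, tA, tB, tF, tG, tK, hL0]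
    · simp only [L1]; rw [List.getD_eq_default _ _ (by simpa using hg), map_one, gen_ge hg]
  have h1 : ∀ i j, (i, j) ∈ [(0, 1), (1, 2), (1, 5), (1, 6), (3, 4)] →
      (L1 i * L1 j) ^ lab i j = 1 := by
    intro i j h
    simp only [List.mem_cons, List.not_mem_nil, or_false, Prod.mk.injEq] at h
    rcases h with ⟨rfl, rfl⟩ | ⟨rfl, rfl⟩ | ⟨rfl, rfl⟩ | ⟨rfl, rfl⟩ | ⟨rfl, rfl⟩
    exacts [eA', eB', eF, eG, eK]
  have sqL : ∀ {L : ℕ → E}, (∀ g, τ (L g) = gen g) → (∀ g, 7 ≤ g → L g * L g = 1) →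
      ∀ g, L g * L g = 1 := by
    intro L t hb g
    rcases Nat.lt_or_ge g 7 with hg | hg
    · exact sqg hg (t g)
    · exact hb g hg
  -- first shift: the component of the first generator
  set P : ℕ → Bool := fun g => [0, 1, 2, 5, 6].contains g with hP
  set r := prodW L1 rOne
  have hr : r ∈ τ.ker := base_image t1 (List.mem_append_right _ List.mem_cons_self)
  set L2 : ℕ → E := fun g => if P g then L1 g * r else L1 g with hL2
  have t2 : ∀ g, τ (L2 g) = gen g := by
    intro g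
    simp only [L2]
    split
    · rw [map_mul, MonoidHom.mem_ker.1 hr, mul_one, t1]
    · exact t1 g
  have hr2 : prodW L2 rOne = 1 := by
    rw [hL2, prodW_shift D hr P, show rOne.countP P = 5 by decide, show (5 : ℕ) = 2 * 2 + 1 from rfl,
      pow_succ, pow_mul, sq r, D.sq hr, one_pow, one_mul]
    exact D.sq hr
  -- second shift: the component of the fourth generator
  set Q : ℕ → Bool := fun g => [3, 4].contains g with hQ
  set s := prodW L2 rFive
  have hs : s ∈ τ.ker :=
    base_image t2 (List.mem_append_right _ (List.mem_cons_of_mem _ List.mem_cons_self))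
  set L3 : ℕ → E := fun g => if Q g then L2 g * s else L2 g with hL3
  have t3 : ∀ g, τ (L3 g) = gen g := by
    intro g
    simp only [L3]
    split
    · rw [map_mul, MonoidHom.mem_ker.1 hs, mul_one, t2]
    · exact t2 g
  have hs3 : prodW L3 rFive = 1 := by
    rw [hL3, prodW_shift D hs Q, show rFive.countP Q = 33 by decide, show (33 : ℕ) = 2 * 16 + 1 from rfl,
      pow_succ, pow_mul, sq s, D.sq hs, one_pow, one_mul]
    exact D.sq hs
  have hr3 : prodW L3 rOne = 1 := by
    rw [hL3, prodW_shift D hs Q, hr2, show rOne.countP Q = 4 by decide, show (4 : ℕ) = 2 * 2 from rfl,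
      pow_mul, sq s, D.sq hs, one_pow, one_mul]
  refine ⟨L3, t3, sqL t3 fun g hg => ?_, fun i j h => ?_, hr3, hs3⟩
  · have e : L3 g = 1 := by
      have hP' : P g = false := by simp [P]; omega
      have hQ' : Q g = false := by simp [Q]; omega
      simp only [L3, L2, hP', hQ', L1, if_false, Bool.false_eq_true]
      exact List.getD_eq_default _ _ (by simpa using hg)
    rw [e, one_mul]
  · have hp : ((pairWord i j (lab i j)).countP P % 2 = 0) ∧ ((pairWord i j (lab i j)).countP Q % 2 = 0) := by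
      revert h
      simp only [List.mem_cons, List.not_mem_nil, or_false, Prod.mk.injEq]
      rintro (⟨rfl, rfl⟩ | ⟨rfl, rfl⟩ | ⟨rfl, rfl⟩ | ⟨rfl, rfl⟩ | ⟨rfl, rfl⟩) <;> decide
    have key : ∀ {u : E}, u ∈ τ.ker → ∀ n : ℕ, n % 2 = 0 → u ^ n = 1 := fun {u} hu n hn => by
      rw [show n = 2 * (n / 2) by omega, pow_mul, sq, D.sq hu, one_pow]
    rw [pairPow_eq, hL3, prodW_shift D hs Q, key hs _ hp.2, mul_one, hL2, prodW_shift D hr P,
      key hr _ hp.1, mul_one, ← pairPow_eq]
    exact h1 i j h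

theorem no_double_trivial [Finite E] (hτ : Cfsg.IsStemExtension τ) (h2 : Nat.card τ.ker = 2)
    (hd : SqOne τ (gen 3)) : False := by
  have D := double_of_card_two hτ h2
  obtain ⟨L, hL, hsq, hodd, hR, hFive⟩ := exists_lifts D hd
  have sqW : ∀ z ∈ witList, ∀ X : E, τ X = prodW gen z.1 → X * X = 1 := fun z hz X hX =>
    q_all D hd hz X hX
  have hcox : ∀ i j, i < 7 → j < 7 → i ≤ j → (L i * L j) ^ lab i j = 1 := by
    intro i j hi hj hij
    have hshape : ∀ i : Fin 7, ∀ j : Fin 7, (i : ℕ) ≤ j → (i : ℕ) = j ∨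
        ((i : ℕ), (j : ℕ)) ∈ [(0, 1), (1, 2), (1, 5), (1, 6), (3, 4)] ∨ ((i : ℕ), (j : ℕ)) = (2, 3) ∨
        ((i : ℕ), (j : ℕ)) = (5, 6) ∨
        (lab i j = 2 ∧ (witList.any fun z => z.1 == [(i : ℕ), (j : ℕ)]) = true) := by decide +kernel
    rcases hshape ⟨i, hi⟩ ⟨j, hj⟩ hij with rfl | h | h | h | ⟨hl, hany⟩
    · rw [show lab i i = 1 by interval_cases i <;> rfl, pow_one, hsq]
    · exact hodd i j h
    · simp only [Prod.mk.injEq] at h
      obtain ⟨rfl, rfl⟩ := h
      rw [show lab 2 3 = 4 * 2 from rfl, pow_mul, sq]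
      have e : τ ((L 2 * L 3) ^ 4) = gen 0 := by
        rw [map_pow, map_mul, hL, hL, ← prodW_pairWord, ← prodW_one 0]
        have hs := small_facts
        simp only [Bool.and_eq_true] at hs
        exact eq_sameM (by decide) rfl hs.1.1.2
      exact (D.sqOne_iff.2 (q_first D)) _ e
    · simp only [Prod.mk.injEq] at h
      obtain ⟨rfl, rfl⟩ := h
      rw [show lab 5 6 = 2 * 2 from rfl, pow_mul, sq]
      have e : τ ((L 5 * L 6) ^ 2) = gen 0 := by
        rw [map_pow, map_mul, hL, hL, ← prodW_pairWord, ← prodW_one 0]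
        have hs := small_facts
        simp only [Bool.and_eq_true] at hs
        exact eq_sameM (by decide) rfl hs.1.2
      exact (D.sqOne_iff.2 (q_first D)) _ e
    · obtain ⟨z, hz, e⟩ := List.any_eq_true.1 hany
      rw [beq_iff_eq] at e
      rw [hl, sq]
      refine sqW z hz _ ?_
      rw [map_mul, hL, hL, e, prodW_cons, prodW_one]
  have hk := knownOdd_of hτ.2.1 hsq hL hcox hR hFive
  have hk2 : ∀ r ∈ knownTwo, prodW L r = 1 := by
    intro r hr
    rcases List.mem_append.1 hr with h | h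
    · exact hk r h
    · obtain ⟨l, hl, rfl⟩ := List.mem_map.1 h
      have h' := List.all_eq_true.mp loose_ok l hl
      rw [Bool.and_eq_true] at h'
      rw [prodW_append]
      exact D.sq (by rw [MonoidHom.mem_ker, tau_prodW τ hL, eq_sameM h'.1 rfl h'.2, prodW_nil])
  have h := top_card hsq (fun r h => knownOdd_sub h) hk2 certMTwo_complete blockTwoA (by decide +kernel)
  have h' := card_le_of_stem hτ hL h.2
  rw [card_faithful.1, h2, show certMTwo.N = 1782 from rfl] at h'
  omega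

end CfsgLib.SuzPres.Mult
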