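import Cfsg.Agent.Lib.SuzPres.MultOdd
import Cfsg.Agent.Lib.SuzPres.MultTwo

/-!
The kernel of a stem extension of the Suzuki group has order dividing six.
-/

set_option autoImplicit false
set_option linter.style.haveILetI false

namespace CfsgLib.SuzPres.Mult

open CfsgLib.CosetEnum CfsgLib.Schur.InvolLift Cfsg.Spor

theorem four_group : ∃ u v g₁ g₂ g₃ : Suz, v * u = u * v ∧ g₁ * u = gen 3 * g₁ ∧
    g₂ * v = gen 3 * g₂ ∧ g₃ * (u * v) = gen 3 * g₃ := by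
  have hm : ∀ t z : List ℕ, witList.contains (t, 3, z) = true →
      prodW gen z * prodW gen t = gen 3 * prodW gen z := fun t z h =>
    (wit_spec (z := (t, 3, z)) (by simpa using h)).2.2
  refine ⟨prodW gen [2, 1, 4, 5, 6, 1, 2, 3, 2, 1, 6, 5, 4, 1, 2], gen 3,
    prodW gen [2, 1, 6, 5, 4, 1, 2], 1,
    prodW gen [2, 1, 3, 2, 3, 4, 5, 6, 1, 0, 1, 2, 3, 2, 4, 3, 1, 0, 1, 2, 3, 4, 0, 1, 2], ?_,
    hm _ [2, 1, 6, 5, 4, 1, 2] (by decide +kernel), by simp, ?_⟩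
  · rw [← prodW_one 3, ← prodW_append, ← prodW_append]
    exact eq_sameM (by decide) (by decide) (by decide +kernel)
  · have h := hm [2, 1, 4, 5, 6, 1, 2, 3, 2, 1, 6, 5, 4, 1, 2, 3]
      [2, 1, 3, 2, 3, 4, 5, 6, 1, 0, 1, 2, 3, 2, 4, 3, 1, 0, 1, 2, 3, 4, 0, 1, 2] (by decide +kernel)
    rw [show ([2, 1, 4, 5, 6, 1, 2, 3, 2, 1, 6, 5, 4, 1, 2, 3] : List ℕ) =
      [2, 1, 4, 5, 6, 1, 2, 3, 2, 1, 6, 5, 4, 1, 2] ++ [3] from rfl, prodW_append, prodW_one] at h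
    exact h

theorem normal_of_ker {Δ : Type} [Group Δ] {τ : Δ →* Suz} (hτ : Cfsg.IsStemExtension τ)
    {K : Subgroup Δ} (hK : K ≤ τ.ker) : K.Normal := ⟨fun x hx y => by
  rw [Subgroup.mem_center_iff.mp (hτ.2.1 (hK hx)) y, mul_inv_cancel_right]; exact hx⟩

theorem not_four {Δ : Type} [Group Δ] [Finite Δ] {τ : Δ →* Suz} (hτ : Cfsg.IsStemExtension τ)
    (h4 : Nat.card τ.ker = 4) : False := by
  obtain ⟨u, v, g₁, g₂, g₃, huv, h1, h2, h3⟩ := four_group
  obtain ⟨A, hA⟩ := hτ.1 (gen 3)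
  have hqq := sq_lift_of_four hτ h4 (gen_sq 3) huv h1 h2 h3 hA
  obtain ⟨w, hw, hwo, hwA⟩ : ∃ w ∈ τ.ker, orderOf w = 2 ∧ A * A ∈ Subgroup.zpowers w := by
    have hq : A * A ∈ τ.ker := by rw [MonoidHom.mem_ker, map_mul, hA, gen_sq]
    by_cases h : A * A = 1
    · haveI := Fact.mk Nat.prime_two
      obtain ⟨⟨w, hw⟩, hwo⟩ := exists_prime_orderOf_dvd_card' (G := τ.ker) 2 (by rw [h4]; norm_num)
      rw [Subgroup.orderOf_mk] at hwo
      exact ⟨w, hw, hwo, by rw [h]; exact one_mem _⟩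
    · haveI := Fact.mk Nat.prime_two
      exact ⟨A * A, hq, orderOf_eq_prime (by rw [sq]; exact hqq) h, Subgroup.mem_zpowers _⟩
  have hwle : Subgroup.zpowers w ≤ τ.ker := Subgroup.zpowers_le.2 hw
  haveI := normal_of_ker hτ hwle
  obtain ⟨hτ', hcard'⟩ := stem_quotient hτ _ hwle
  rw [h4, Nat.card_zpowers, hwo] at hcard'
  refine no_double_trivial hτ' (by omega) fun b hb => ?_
  have D := double_of_card_two hτ' (by omega)
  rw [D.mul_self_eq (b := QuotientGroup.mk A) (hb.trans hA.symm), ← QuotientGroup.mk_mul,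
    QuotientGroup.eq_one_iff]
  exact hwA

/-- A subgroup of the kernel of given order. -/
theorem exists_quotient {Δ : Type} [Group Δ] [Finite Δ] {τ : Δ →* Suz}
    (hτ : Cfsg.IsStemExtension τ) (M : Subgroup τ.ker) :
    ∃ (Δ' : Type) (_ : Group Δ') (_ : Finite Δ') (τ' : Δ' →* Suz), Cfsg.IsStemExtension τ' ∧
      Nat.card τ'.ker * Nat.card M = Nat.card τ.ker := by
  let K : Subgroup Δ := M.map τ.ker.subtype
  have hK : K ≤ τ.ker := Subgroup.map_subtype_le _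
  haveI := normal_of_ker hτ hK
  obtain ⟨h1, h2⟩ := stem_quotient hτ K hK
  rw [Subgroup.card_map_of_injective τ.ker.subtype_injective] at h2
  exact ⟨Δ ⧸ K, inferInstance, inferInstance, _, h1, h2⟩

theorem card_ker_dvd_six {Γ : Type} [Group Γ] [Finite Γ] {σ : Γ →* Suz}
    (hσ : Cfsg.IsStemExtension σ) : Nat.card σ.ker ∣ 6 := by
  haveI := Fact.mk Nat.prime_two
  set n := Nat.card σ.ker
  have hn0 : n ≠ 0 := Nat.card_pos.ne'
  obtain ⟨P⟩ := (inferInstance : Nonempty (Sylow 2 σ.ker))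
  obtain ⟨Δ₁, _, _, τ₁, h₁, c₁⟩ := exists_quotient hσ (P : Subgroup σ.ker)
  have hP : Nat.card (P : Subgroup σ.ker) = 2 ^ n.factorization 2 := P.card_eq_multiplicity
  rw [hP] at c₁
  set m := Nat.card τ₁.ker
  set a := n.factorization 2
  have hm : ¬ 2 ∣ m := fun ⟨b, hb⟩ => by
    have h : 2 ^ (a + 1) ∣ n := ⟨b, by rw [show n = m * 2 ^ a from c₁.symm, hb, pow_succ]; ring⟩
    exact absurd ((Nat.prime_two.pow_dvd_iff_le_factorization hn0).1 h) (Nat.not_succ_le_self a)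
  have hodd : Odd m := Nat.odd_iff.2 (by omega)
  have hm3 : m ≤ 3 := odd_bound h₁ hodd
  have hm' : m = 1 ∨ m = 3 := by
    obtain ⟨k, hk⟩ := hodd
    omega
  have ha : a ≤ 1 := by
    by_contra hgt
    -- kill the odd part, then all but a quotient of order four
    obtain ⟨M, hM⟩ : ∃ M : Subgroup σ.ker, Nat.card M = m := by
      rcases hm' with e | e
      · exact ⟨⊥, by rw [e]; simp⟩
      · haveI := Fact.mk Nat.prime_three
        obtain ⟨M, hM⟩ := Sylow.exists_subgroup_card_pow_prime 3 (G := σ.ker) (n := 1)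
          (by rw [pow_one, show Nat.card σ.ker = m * 2 ^ a from c₁.symm, e]; exact Dvd.intro _ rfl)
        exact ⟨M, by rw [hM, e, pow_one]⟩
    obtain ⟨Δ₂, _, _, τ₂, h₂, c₂⟩ := exists_quotient hσ M
    rw [hM, show Nat.card σ.ker = m * 2 ^ a from c₁.symm, mul_comm m] at c₂
    have c₂' : Nat.card τ₂.ker = 2 ^ a := Nat.eq_of_mul_eq_mul_right (by omega) c₂
    obtain ⟨M₂, hM₂⟩ := Sylow.exists_subgroup_card_pow_prime 2 (G := τ₂.ker) (n := a - 2)
      (by rw [c₂']; exact pow_dvd_pow 2 (by omega))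
    obtain ⟨Δ₃, _, _, τ₃, h₃, c₃⟩ := exists_quotient h₂ M₂
    rw [hM₂, c₂', show (2 : ℕ) ^ a = 4 * 2 ^ (a - 2) by
      rw [show (4 : ℕ) = 2 ^ 2 from rfl, ← pow_add]; congr 1; omega] at c₃
    exact not_four h₃ (Nat.eq_of_mul_eq_mul_right (by positivity) c₃)
  rw [show n = m * 2 ^ a from c₁.symm]
  interval_cases a <;> rcases hm' with e | e <;> rw [e] <;> norm_num

end CfsgLib.SuzPres.Mult
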