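import Cfsg.Agent.Lib.SuzPres.MultRepDefs
import Cfsg.Agent.Lib.SuzPres.DataA

/-!
Kernel checks of the matrices of the sixfold cover.
-/

set_option autoImplicit false
set_option Elab.async false

namespace CfsgLib.SuzPres.Rep

open CfsgLib.PackMat

/-- the scalars of the relators of the first certificate -/
def relVals : List ℕ :=
  [1, 1, 1, 6, 6, 1, 1, 1, 6, 6, 6, 1, 6, 1, 1, 6, 1, 1, 6, 6, 6, 6, 6, 6, 6, 1, 1, 1, 6, 6, 1, 4, 6]

theorem rel_len : certA.rels.length = relVals.length := by decide +kernel

theorem rel_scalar : ((certA.rels.zip relVals).all scalarOK) = true := by decide +kernel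

theorem gen_inv : ((List.range 7).all fun g => shapeOK (genM g) &&
    mulM (genM g) (mulM (scalM (genSigns.getD g 1)) (genM g)) == scalM 1 &&
    mulM (mulM (scalM (genSigns.getD g 1)) (genM g)) (genM g) == scalM 1) = true := by decide +kernel

theorem anti_ok : (mulM (evalM antiWord) (genM 3) ==
    mulM (scalM 6) (mulM (genM 3) (evalM antiWord))) = true := by decide +kernel

end CfsgLib.SuzPres.Rep
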