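import Cfsg.Prelude.Def_KGroupFacts
import Cfsg.Agent.Lib.SuzPres.MultRepFacts
import Cfsg.Agent.Lib.SuzPres.MultBound
import Cfsg.Agent.Lib.Schur.CyclicBound

/-!
The Schur multiplier of the Suzuki group has order six.
-/

set_option autoImplicit false
set_option linter.style.haveILetI false

open scoped commutatorElement

namespace CfsgLib.SuzPres.Rep

open CfsgLib.CosetEnum CfsgLib.PackMat Cfsg.Spor

local instance suzSevenPrime : Fact (Nat.Prime 7) := ⟨by norm_num⟩

abbrev GLTwelve := (Matrix (Fin 12) (Fin 12) (ZMod 7))ˣ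

theorem shape_scal (s : ℕ) : shapeOK (scalM s) = true := by
  simp only [shapeOK, scalM, Bool.and_eq_true, List.all_eq_true, Nat.blt_eq, List.length_map,
    List.length_range, Nat.beq_refl, true_and, List.mem_map]
  rintro _ ⟨i, -, rfl⟩
  refine ⟨by simp, fun x hx => ?_⟩
  obtain ⟨j, -, rfl⟩ := List.mem_map.1 hx
  split <;> omega

theorem genM_shape (g : ℕ) : shapeOK (genM g) = true := by
  rcases Nat.lt_or_ge g 7 with hg | hg
  · have h := List.all_eq_true.mp gen_inv g (List.mem_range.2 hg)
    simp only [Bool.and_eq_true] at h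
    exact h.1.1
  · rw [genM, List.getD_eq_default _ _ (by simpa [genMats] using hg)]
    exact shape_scal 1

theorem mat_one : mat (scalM 1) = 1 := by rw [mat_scal, Nat.cast_one, map_one]

theorem evalM_shape : ∀ w, shapeOK (evalM w) = true
  | [] => shape_scal 1
  | g :: _ => shape_mul _ (genM_shape g)

/-- a generator as an invertible matrix -/
noncomputable def genU (g : ℕ) : GLTwelve :=
  if h : g < 7 then
    { val := mat (genM g)
      inv := mat (mulM (scalM (genSigns.getD g 1)) (genM g))
      val_inv := by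
        have h' := List.all_eq_true.mp gen_inv g (List.mem_range.2 h)
        simp only [Bool.and_eq_true, beq_iff_eq] at h'
        rw [← mat_mul (genM_shape g) (shape_mul _ (shape_scal _)), h'.1.2, mat_one]
      inv_val := by
        have h' := List.all_eq_true.mp gen_inv g (List.mem_range.2 h)
        simp only [Bool.and_eq_true, beq_iff_eq] at h'
        rw [← mat_mul (shape_mul _ (shape_scal _)) (genM_shape g), h'.2, mat_one] }
  else 1

theorem genU_val (g : ℕ) : ((genU g : GLTwelve) : Matrix (Fin 12) (Fin 12) (ZMod 7)) = mat (genM g) := by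
  unfold genU
  split
  · rfl
  · next h =>
    rw [genM, List.getD_eq_default _ _ (by simpa [genMats] using (Nat.le_of_not_lt h)), mat_one,
      Units.val_one]

theorem prodW_val : ∀ w, ((prodW genU w : GLTwelve) : Matrix (Fin 12) (Fin 12) (ZMod 7)) = mat (evalM w)
  | [] => by rw [prodW_nil, Units.val_one]; exact mat_one.symm
  | g :: w => by
    rw [prodW_cons, Units.val_mul, prodW_val w, genU_val, evalM, mat_mul (genM_shape g) (evalM_shape w)]

/-- the scalar matrices -/
noncomputable def scal : (ZMod 7)ˣ →* GLTwelve := Units.map (Matrix.scalar (Fin 12)).toMonoidHom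

theorem scal_central (s : (ZMod 7)ˣ) : scal s ∈ Subgroup.center GLTwelve := by
  rw [Subgroup.mem_center_iff]
  intro x
  refine Units.ext ?_
  show (x : Matrix (Fin 12) (Fin 12) (ZMod 7)) * Matrix.scalar (Fin 12) (s : ZMod 7) =
    Matrix.scalar (Fin 12) (s : ZMod 7) * x
  exact (Matrix.scalar_commute _ (fun r => Commute.all _ r) _).symm.eq

theorem mem_scal {x : GLTwelve} {s : ℕ} (hs : (s : ZMod 7) ≠ 0)
    (h : (x : Matrix (Fin 12) (Fin 12) (ZMod 7)) = mat (scalM s)) :
    x = scal (Units.mk0 (s : ZMod 7) hs) := by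
  refine Units.ext ?_
  rw [h, mat_scal]
  rfl

/-- the pairs of lifts -/
noncomputable def pairG (g : ℕ) : GLTwelve × Suz := (genU g, gen g)

/-- the group of pairs -/
noncomputable abbrev pairGroup : Subgroup (GLTwelve × Suz) := genSub pairG 7

theorem pair_mem {g : ℕ} (hg : g < 7) : pairG g ∈ pairGroup := Subgroup.subset_closure ⟨g, hg, rfl⟩

theorem prod_pair : ∀ w, prodW pairG w = (prodW genU w, prodW gen w)
  | [] => rfl
  | g :: w => by rw [prodW_cons, prod_pair w, prodW_cons, prodW_cons]; rfl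

theorem prod_mem {w : List ℕ} (h : ∀ g ∈ w, g < 7) : prodW pairG w ∈ pairGroup :=
  list_prod_mem fun y hy => by
    obtain ⟨g, hg, rfl⟩ := List.mem_map.1 hy
    exact pair_mem (h g hg)

/-- the projection -/
noncomputable def pairProj : pairGroup →* Suz :=
  (MonoidHom.snd GLTwelve Suz).comp pairGroup.subtype

/-- the scalars in the group of pairs -/
noncomputable def scalN : Subgroup pairGroup :=
  (Subgroup.prod scal.range (⊥ : Subgroup Suz)).subgroupOf pairGroup

theorem scalN_center : scalN ≤ Subgroup.center pairGroup := by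
  intro x hx
  rw [scalN, Subgroup.mem_subgroupOf, Subgroup.mem_prod, Subgroup.mem_bot] at hx
  obtain ⟨⟨s, hs⟩, h2⟩ := hx
  rw [Subgroup.mem_center_iff]
  intro y
  refine Subtype.ext (Prod.ext ?_ ?_)
  · show (y : GLTwelve × Suz).1 * (x : GLTwelve × Suz).1 = (x : GLTwelve × Suz).1 * (y : GLTwelve × Suz).1
    rw [← hs]
    exact Subgroup.mem_center_iff.1 (scal_central s) _
  · show (y : GLTwelve × Suz).2 * (x : GLTwelve × Suz).2 = (x : GLTwelve × Suz).2 * (y : GLTwelve × Suz).2
    rw [h2, mul_one, one_mul]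

theorem vals_unit : ∀ s ∈ relVals, (s : ZMod 7) ≠ 0 := by decide +kernel

theorem rel_mem {r : List ℕ} (hr : r ∈ certA.rels) :
    (∀ g ∈ r, g < 7) → ∀ h : prodW pairG r ∈ pairGroup, (⟨prodW pairG r, h⟩ : pairGroup) ∈ scalN := by
  intro hlt h
  obtain ⟨i, hi, rfl⟩ := List.getElem_of_mem hr
  have hi' : i < relVals.length := rel_len ▸ hi
  have hz := List.all_eq_true.mp rel_scalar (certA.rels[i], relVals[i])
    (List.mem_iff_getElem.2 ⟨i, by rw [List.length_zip]; omega, List.getElem_zip⟩)
  simp only [scalarOK, beq_iff_eq] at hz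
  rw [scalN, Subgroup.mem_subgroupOf, Subgroup.mem_prod, Subgroup.mem_bot]
  show (prodW pairG certA.rels[i]).1 ∈ scal.range ∧ (prodW pairG certA.rels[i]).2 = 1
  rw [prod_pair]
  refine ⟨⟨_, (mem_scal (vals_unit _ (List.getElem_mem hi')) ?_).symm⟩, modelA.rel _ hr⟩
  rw [prodW_val, hz]

/-- the image of a generator modulo scalars -/
noncomputable def quoGen (g : ℕ) : pairGroup ⧸ scalN :=
  haveI : scalN.Normal := ⟨fun x hx y => by
    rw [Subgroup.mem_center_iff.1 (scalN_center hx) y, mul_inv_cancel_right]; exact hx⟩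
  if h : g < 7 then QuotientGroup.mk' scalN ⟨pairG g, pair_mem h⟩ else 1

instance scalN_normal : scalN.Normal := ⟨fun x hx y => by
  rw [Subgroup.mem_center_iff.1 (scalN_center hx) y, mul_inv_cancel_right]; exact hx⟩

theorem quo_prod {w : List ℕ} (hw : ∀ g ∈ w, g < 7) :
    prodW quoGen w = QuotientGroup.mk' scalN ⟨prodW pairG w, prod_mem hw⟩ := by
  induction w with
  | nil => exact (map_one _).symm
  | cons g w ih =>
    rw [List.forall_mem_cons] at hw
    rw [prodW_cons, ih hw.2, quoGen, dif_pos hw.1, ← map_mul]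
    congr 1

theorem quo_rel {r : List ℕ} (hr : r ∈ certA.rels) : prodW quoGen r = 1 := by
  have h : (certA.rels.all fun r => r.all fun g => Nat.blt g 7) = true := by decide +kernel
  simp only [List.all_eq_true, Nat.blt_eq] at h
  rw [quo_prod (h r hr)]
  exact (QuotientGroup.eq_one_iff _).2 (rel_mem hr (h r hr) _)

theorem quo_sq (g : ℕ) : quoGen g * quoGen g = 1 := by
  rcases Nat.lt_or_ge g 7 with hg | hg
  · have hm : [g, g] ∈ certA.rels := by interval_cases g <;> decide +kernel
    simpa using quo_rel hm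
  · simp [quoGen, Nat.not_lt.2 hg]

theorem exists_back : ∃ f : Suz →* pairGroup ⧸ scalN, ∀ g < 7, f (gen g) = quoGen g := by
  let φ : Suz.Gen → pairGroup ⧸ scalN := fun x => quoGen (letters.idxOf x)
  have hφ : ∀ x, φ x * φ x = 1 := fun x => quo_sq _
  have hgenOf : ∀ g, genOf letters φ g = quoGen g := by
    intro g
    rcases Nat.lt_or_ge g 7 with hg | hg
    · rw [genOf_of_lt (show g < letters.length by simpa [letters] using hg)]
      interval_cases g <;> rfl
    · rw [genOf_of_ge (by simpa [letters] using hg)]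
      simp [quoGen, Nat.not_lt.2 hg]
  have hrel : ∀ r ∈ coxRelators Suz.edges ∪ {r | r ∈ Suz.extra}, FreeGroup.lift φ r = 1 := by
    rintro r (⟨x, -, y, -, rfl⟩ | hr)
    · have hall : ∀ i < 7, ∀ j < 7,
          (certA.rels.contains (pairWord i j (coxLabel Suz.edges (letters.getD i .a) (letters.getD j .a))) ||
           certA.rels.contains (pairWord j i (coxLabel Suz.edges (letters.getD i .a) (letters.getD j .a))))
            = true := by decide +kernel
      rw [map_pow, map_mul, FreeGroup.lift_apply_of, FreeGroup.lift_apply_of]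
      have hx : letters.idxOf x < 7 := by cases x <;> decide
      have hy : letters.idxOf y < 7 := by cases y <;> decide
      have ex : letters.getD (letters.idxOf x) .a = x := by cases x <;> rfl
      have ey : letters.getD (letters.idxOf y) .a = y := by cases y <;> rfl
      have h := hall _ hx _ hy
      rw [ex, ey, Bool.or_eq_true, List.contains_iff_mem, List.contains_iff_mem] at h
      show (quoGen (letters.idxOf x) * quoGen (letters.idxOf y)) ^ coxLabel Suz.edges x y = 1
      rcases h with h | h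
      · rw [← prodW_pairWord]; exact quo_rel h
      · have e := quo_rel h
        rw [prodW_pairWord] at e
        rw [← inv_eq_one, ← inv_pow, mul_inv_rev, inv_eq_of_mul_eq_one_right (quo_sq _),
          inv_eq_of_mul_eq_one_right (quo_sq _)]
        exact e
    · obtain ⟨k, hk, rfl⟩ := List.getElem_of_mem (show r ∈ Suz.extra from hr)
      have hlen := extraWords.length_eq
      have h2 := (List.forall₂_iff_get.mp extraWords).2 k hk (by omega)
      simp only [List.get_eq_getElem] at h2
      rw [h2 _ φ hφ, show genOf letters φ = quoGen from funext hgenOf]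
      have hsub : ∀ w ∈ extraW, w ∈ certA.rels := by decide +kernel
      exact quo_rel (hsub _ (List.getElem_mem _))
  refine ⟨PresentedGroup.toGroup hrel, fun g hg => ?_⟩
  rw [gen, presGen, genOf_of_lt (show g < letters.length by simpa [letters] using hg),
    PresentedGroup.toGroup.of]
  interval_cases g <;> rfl

theorem proj_surjective : Function.Surjective pairProj := by
  intro x
  have h : x ∈ genSub gen 7 := by
    have h' := Subgroup.mem_top x
    rw [← setupA.gen_top] at h'
    exact h'
  have hle : genSub gen 7 ≤ pairGroup.map (MonoidHom.snd GLTwelve Suz) := by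
    rw [pairGroup, genSub, genSub, MonoidHom.map_closure]
    refine Subgroup.closure_mono ?_
    rintro _ ⟨g, hg, rfl⟩
    exact ⟨pairG g, ⟨g, hg, rfl⟩, rfl⟩
  obtain ⟨p, hp, e⟩ := hle h
  exact ⟨⟨p, hp⟩, e⟩

theorem ker_proj : pairProj.ker ≤ scalN := by
  obtain ⟨f, hf⟩ := exists_back
  have key : ∀ p, ∀ hp : p ∈ pairGroup, f p.2 = QuotientGroup.mk' scalN ⟨p, hp⟩ := by
    intro p hp
    induction hp using Subgroup.closure_induction with
    | mem y hy =>
      obtain ⟨g, hg, rfl⟩ := hy
      rw [show (pairG g).2 = gen g from rfl, hf g hg, quoGen, dif_pos hg]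
    | one => exact (map_one f).trans (map_one _).symm
    | mul x y hx hy ihx ihy =>
      rw [Prod.snd_mul, map_mul, ihx, ihy, ← map_mul]
      rfl
    | inv x hx ihx =>
      rw [Prod.snd_inv, map_inv, ihx, ← map_inv]
      rfl
  intro x hx
  have h := key x.1 x.2
  rw [show (x : GLTwelve × Suz).2 = 1 from MonoidHom.mem_ker.1 hx, map_one] at h
  exact (QuotientGroup.eq_one_iff x).1 h.symm

/-- the sixfold cover -/
noncomputable abbrev sixSuz : Subgroup pairGroup := commutator pairGroup

/-- its projection -/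
noncomputable def sixProj : sixSuz →* Suz := pairProj.comp sixSuz.subtype

theorem suz_not_comm : ¬ IsMulCommutative Suz := by
  intro h
  haveI := isSuz.1
  letI : CommGroup Suz := { (inferInstance : Group Suz) with mul_comm := h.is_comm.comm }
  have hp : (Nat.card Suz).Prime := IsSimpleGroup.prime_card
  rw [card_faithful.1] at hp
  exact absurd hp (by norm_num)

theorem sixProj_surjective : Function.Surjective sixProj := by
  haveI := isSuz.1
  have htop : (commutator pairGroup).map pairProj = ⊤ := by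
    rw [commutator_def, Subgroup.map_commutator, Subgroup.map_top_of_surjective _ proj_surjective,
      ← commutator_def]
    refine ((commutator_def Suz ▸ inferInstance : (commutator Suz).Normal).eq_bot_or_eq_top).resolve_left
      fun h => suz_not_comm ⟨⟨fun a b => commutatorElement_eq_one_iff_mul_comm.mp ?_⟩⟩
    have hm : ⁅a, b⁆ ∈ commutator Suz :=
      Subgroup.commutator_mem_commutator (Subgroup.mem_top a) (Subgroup.mem_top b)
    rwa [h, Subgroup.mem_bot] at hm
  intro x
  obtain ⟨c, hc, e⟩ := (htop ▸ Subgroup.mem_top x : x ∈ (commutator pairGroup).map pairProj)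
  exact ⟨⟨c, hc⟩, e⟩

theorem proj_center : pairProj.ker ≤ Subgroup.center pairGroup := ker_proj.trans scalN_center

theorem sixProj_stem : Cfsg.IsStemExtension sixProj := by
  refine ⟨sixProj_surjective, fun x hx => ?_, fun x _ => ?_⟩
  · rw [Subgroup.mem_center_iff]
    intro y
    exact Subtype.ext (Subgroup.mem_center_iff.1 (proj_center (MonoidHom.mem_ker.2 (MonoidHom.mem_ker.1 hx :))) y)
  · have hle : sixSuz ≤ (commutator sixSuz).map sixSuz.subtype := by
      rw [Subgroup.map_subtype_commutator]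
      show commutator pairGroup ≤ _
      rw [commutator_def, Subgroup.commutator_le]
      intro a _ b _
      obtain ⟨a', ha'⟩ := sixProj_surjective (pairProj a)
      obtain ⟨b', hb'⟩ := sixProj_surjective (pairProj b)
      rw [CfsgLib.Schur.commutatorElement_congr pairProj proj_center ha'.symm hb'.symm]
      exact Subgroup.commutator_mem_commutator a'.2 b'.2
    obtain ⟨y, hy, e⟩ := hle x.2
    rwa [show x = y from (Subtype.ext e).symm]

theorem anti_mem : ∃ z : pairGroup, z ∈ commutator pairGroup ∧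
    ((z : GLTwelve × Suz).1 : Matrix (Fin 12) (Fin 12) (ZMod 7)) = mat (scalM 6) ∧ (z : GLTwelve × Suz).2 = 1 := by
  have hlt : ∀ g ∈ antiWord, g < 7 := by decide
  refine ⟨⁅(⟨_, prod_mem hlt⟩ : pairGroup), ⟨_, pair_mem (show 3 < 7 by norm_num)⟩⁆,
    Subgroup.commutator_mem_commutator (Subgroup.mem_top _) (Subgroup.mem_top _), ?_, ?_⟩
  · show ((⁅prodW pairG antiWord, pairG 3⁆ : GLTwelve × Suz).1 : Matrix (Fin 12) (Fin 12) (ZMod 7)) = _
    rw [prod_pair]
    show ((⁅prodW genU antiWord, genU 3⁆ : GLTwelve) : Matrix (Fin 12) (Fin 12) (ZMod 7)) = _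
    have hne : ((6 : ℕ) : ZMod 7) ≠ 0 := by decide
    have e : prodW genU antiWord * genU 3 = scal (Units.mk0 _ hne) * (genU 3 * prodW genU antiWord) := by
      refine Units.ext ?_
      rw [Units.val_mul, Units.val_mul, Units.val_mul, prodW_val, genU_val,
        ← mat_mul (evalM_shape _) (genM_shape 3), beq_iff_eq.mp anti_ok,
        mat_mul (shape_scal 6) (shape_mul _ (genM_shape 3)),
        mat_mul (genM_shape 3) (evalM_shape _), mat_scal]
      rfl
    rw [commutatorElement_def, e, mul_assoc (scal _), mul_assoc (genU 3), mul_inv_cancel, mul_one,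
      mul_inv_cancel_right, mat_scal]
    rfl
  · show (⁅prodW pairG antiWord, pairG 3⁆ : GLTwelve × Suz).2 = 1
    rw [prod_pair]
    show ⁅prodW gen antiWord, gen 3⁆ = 1
    rw [commutatorElement_eq_one_iff_mul_comm, ← Mult.prodW_one 3, ← prodW_append, ← prodW_append]
    exact Mult.eq_sameM (by decide) (by decide) (by decide +kernel)

theorem sq_mem (x : pairGroup) : x * x ∈ commutator pairGroup := by
  obtain ⟨z, hz, hz1, hz2⟩ := anti_mem
  let q := Abelianization.of (G := pairGroup)
  have hq : ∀ p, ∀ hp : p ∈ pairGroup, q ⟨p, hp⟩ * q ⟨p, hp⟩ = 1 := by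
    intro p hp
    induction hp using Subgroup.closure_induction with
    | mem y hy =>
      obtain ⟨g, hg, rfl⟩ := hy
      rw [← map_mul]
      refine (QuotientGroup.eq_one_iff _).2 ?_
      have hm : [g, g] ∈ certA.rels := by interval_cases g <;> decide +kernel
      have h := List.all_eq_true.mp (show ((List.range 7).all fun g =>
          evalM [g, g] == scalM 1 || evalM [g, g] == scalM 6) = true by decide +kernel) g (List.mem_range.2 hg)
      have h2 : (pairG g * pairG g).2 = 1 := by simpa [pairG] using modelA.rel _ hm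
      have h1 : ((pairG g * pairG g).1 : Matrix (Fin 12) (Fin 12) (ZMod 7)) = mat (evalM [g, g]) := by
        rw [← prodW_val]; simp [pairG]
      rw [Bool.or_eq_true] at h
      rcases h with e | e
      · rw [beq_iff_eq.mp e, mat_one] at h1
        have : (⟨pairG g, Subgroup.subset_closure ⟨g, hg, rfl⟩⟩ *
            ⟨pairG g, Subgroup.subset_closure ⟨g, hg, rfl⟩⟩ : pairGroup) = 1 :=
          Subtype.ext (Prod.ext (Units.ext h1) h2)
        rw [this]
        exact one_mem _
      · rw [beq_iff_eq.mp e] at h1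
        have : (⟨pairG g, Subgroup.subset_closure ⟨g, hg, rfl⟩⟩ *
            ⟨pairG g, Subgroup.subset_closure ⟨g, hg, rfl⟩⟩ : pairGroup) = z :=
          Subtype.ext (Prod.ext (Units.ext (h1.trans hz1.symm)) (h2.trans hz2.symm))
        rw [this]
        exact hz
    | one =>
      rw [show (⟨1, one_mem _⟩ : pairGroup) = 1 from rfl, map_one, one_mul]
    | mul a b ha hb iha ihb =>
      rw [show (⟨a * b, mul_mem ha hb⟩ : pairGroup) = ⟨a, ha⟩ * ⟨b, hb⟩ from rfl, map_mul,
        mul_mul_mul_comm, iha, ihb, one_mul]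
    | inv a ha iha =>
      rw [show (⟨a⁻¹, inv_mem ha⟩ : pairGroup) = (⟨a, ha⟩ : pairGroup)⁻¹ from rfl, map_inv,
        ← mul_inv, iha, inv_one]
  have h := hq x.1 x.2
  rw [← map_mul] at h
  exact (QuotientGroup.eq_one_iff _).1 h

theorem card_ker : Nat.card sixProj.ker = 6 ∧ IsCyclic sixProj.ker := by
  obtain ⟨z, hz, hz1, hz2⟩ := anti_mem
  -- the element of order three
  have hr : ([1, 5, 6, 1, 5, 6, 1, 5, 6, 1, 5, 6, 1, 5, 6] : List ℕ) ∈ certA.rels := by decide +kernel
  have hlt : ∀ g ∈ ([1, 5, 6, 1, 5, 6, 1, 5, 6, 1, 5, 6, 1, 5, 6] : List ℕ), g < 7 := by decide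
  set w : pairGroup := ⟨_, prod_mem hlt⟩
  have hw1 : ((w : GLTwelve × Suz).1 : Matrix (Fin 12) (Fin 12) (ZMod 7)) = mat (scalM 4) := by
    show ((prodW pairG _).1 : Matrix (Fin 12) (Fin 12) (ZMod 7)) = _
    rw [prod_pair, prodW_val, beq_iff_eq.mp (show (evalM [1, 5, 6, 1, 5, 6, 1, 5, 6, 1, 5, 6, 1, 5, 6] ==
      scalM 4) = true by decide +kernel)]
  have hw2 : (w : GLTwelve × Suz).2 = 1 := by
    show (prodW pairG _).2 = _
    rw [prod_pair]
    exact modelA.rel _ hr
  set w' : pairGroup := w * w * (w * w)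
  have hw' : w' ∈ commutator pairGroup := mul_mem (sq_mem w) (sq_mem w)
  have h4 : ((4 : ℕ) : ZMod 7) ≠ 0 := by decide
  have h6 : ((6 : ℕ) : ZMod 7) ≠ 0 := by decide
  have ew : (w' : GLTwelve × Suz) = (scal (Units.mk0 _ h4 ^ 4), 1) := by
    refine Prod.ext ?_ (by simp [w', hw2])
    show (w : GLTwelve × Suz).1 * (w : GLTwelve × Suz).1 * ((w : GLTwelve × Suz).1 * (w : GLTwelve × Suz).1) = _
    rw [mem_scal h4 hw1, ← map_mul, ← map_mul]
    congr 1
    simp only [pow_succ, pow_zero, one_mul, mul_assoc]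
  have ez : (z : GLTwelve × Suz) = (scal (Units.mk0 _ h6), 1) := Prod.ext (mem_scal h6 hz1) hz2
  set t : pairGroup := w' * z
  have et : (t : GLTwelve × Suz) = (scal (Units.mk0 _ h4 ^ 4 * Units.mk0 _ h6), 1) := by
    rw [Subgroup.coe_mul, ew, ez, map_mul]
    exact Prod.ext rfl (one_mul 1)
  have htk : (⟨t, mul_mem hw' hz⟩ : sixSuz) ∈ sixProj.ker := by
    rw [MonoidHom.mem_ker]
    show (t : GLTwelve × Suz).2 = 1
    rw [et]
  have hord : 6 ≤ orderOf (⟨⟨t, mul_mem hw' hz⟩, htk⟩ : sixProj.ker) := by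
    have hinj : ∀ {s : (ZMod 7)ˣ}, scal s = 1 → s = 1 := by
      intro s h
      refine Units.ext ?_
      have h' : Matrix.scalar (Fin 12) (s : ZMod 7) = 1 := congrArg Units.val h
      exact Matrix.scalar_inj.1 (by rw [h', Units.val_one, map_one])
    by_contra hlt'
    have hpos := orderOf_pos (⟨⟨t, mul_mem hw' hz⟩, htk⟩ : sixProj.ker)
    have hp := pow_orderOf_eq_one (⟨⟨t, mul_mem hw' hz⟩, htk⟩ : sixProj.ker)
    have hp' := congrArg (fun x : sixProj.ker => ((x : sixSuz) : pairGroup).1.1) hp
    simp only [SubmonoidClass.coe_pow, Prod.pow_fst, et] at hp'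
    rw [← map_pow] at hp'
    have hs := hinj hp'
    have hall : ∀ a b : (ZMod 7)ˣ, (a : ZMod 7) = 4 → (b : ZMod 7) = 6 →
        ∀ k : Fin 6, 0 < (k : ℕ) → (a ^ 4 * b) ^ (k : ℕ) ≠ 1 := by decide +kernel
    exact hall _ _ (by simp) (by simp) ⟨_, Nat.lt_of_not_le hlt'⟩ hpos hs
  have hdvd := Mult.card_ker_dvd_six sixProj_stem
  have h1 : orderOf (⟨⟨t, mul_mem hw' hz⟩, htk⟩ : sixProj.ker) ∣ Nat.card sixProj.ker :=
    orderOf_dvd_natCard _
  have hle := Nat.le_of_dvd (by norm_num) hdvd
  have hle' := Nat.le_of_dvd Nat.card_pos h1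
  refine ⟨by omega, isCyclic_of_orderOf_eq_card (⟨⟨t, mul_mem hw' hz⟩, htk⟩ : sixProj.ker) (by omega)⟩

theorem ker_cyclic {Γ : Type} [Group Γ] [Finite Γ] {σ : Γ →* Suz} (hσ : Cfsg.IsStemExtension σ) :
    IsCyclic σ.ker := by
  have hd := Mult.card_ker_dvd_six hσ
  have hc : ∀ x y : σ.ker, x * y = y * x := fun x y =>
    Subtype.ext (Subgroup.mem_center_iff.1 (hσ.2.1 y.2) x)
  letI : CommGroup σ.ker := { (inferInstance : Group σ.ker) with mul_comm := hc }
  refine IsCyclic.of_exponent_eq_card ?_
  refine Nat.dvd_antisymm Group.exponent_dvd_nat_card ?_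
  have hp : ∀ p, p.Prime → p ∣ Nat.card σ.ker → p ∣ Monoid.exponent σ.ker := fun p hp h => by
    haveI := Fact.mk hp
    obtain ⟨x, hx⟩ := exists_prime_orderOf_dvd_card' p h
    exact hx ▸ Monoid.order_dvd_exponent x
  rcases (by
    have := Nat.le_of_dvd (by norm_num) hd
    interval_cases h : Nat.card σ.ker <;> omega :
      Nat.card σ.ker = 1 ∨ Nat.card σ.ker = 2 ∨ Nat.card σ.ker = 3 ∨ Nat.card σ.ker = 6) with e | e | e | e
  · rw [e]; exact one_dvd _
  · rw [e]; exact hp 2 Nat.prime_two (by rw [e])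
  · rw [e]; exact hp 3 Nat.prime_three (by rw [e])
  · rw [e]
    show 2 * 3 ∣ _
    exact Nat.Coprime.mul_dvd_of_dvd_of_dvd (by norm_num)
      (hp 2 Nat.prime_two (by rw [e]; norm_num)) (hp 3 Nat.prime_three (by rw [e]; norm_num))

theorem multiplier_suz : Cfsg.HasCyclicSchurMultiplier Suz 6 := by
  obtain ⟨hk, hcyc⟩ := card_ker
  refine ⟨⟨sixSuz, inferInstance, inferInstance, sixProj, sixProj_stem,
    ⟨mulEquivOfCyclicCardEq (by rw [hk, Nat.card_congr Multiplicative.toAdd, Nat.card_zmod])⟩⟩,
    fun Δ _ _ τ hτ => ?_⟩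
  haveI := ker_cyclic hτ
  obtain ⟨g, hg⟩ := IsCyclic.exists_generator (α := τ.ker)
  exact CfsgLib.StemExt.exists_surjective_of_zmod g hg
    (orderOf_dvd_iff_pow_eq_one.1 ((orderOf_dvd_natCard g).trans (Mult.card_ker_dvd_six hτ)))

end CfsgLib.SuzPres.Rep
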