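import Cfsg.Agent.Lib.SuzPres.MultLists
import Cfsg.Agent.Lib.Schur.InvolutionLift

/-!
Lifts of the generators of the Suzuki group to a stem extension: order bounds from the relaxed relators.
-/

set_option autoImplicit false

namespace CfsgLib.SuzPres.Mult

open CfsgLib.CosetEnum Cfsg.Spor

variable {E : Type} [Group E]

theorem knownOdd_sub {r : List ℕ} (h : r ∈ knownOdd) : r ∈ knownTwo := List.mem_append_left _ h

theorem inner_card {L : ℕ → E} (hsq : ∀ g, L g * L g = 1) (hr : ∀ r ∈ knownOdd, prodW L r = 1) :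
    Finite (genSub L 6) ∧ Nat.card (genSub L 6) ≤ 416 * (280 * (135 * (16 * 1))) := by
  have hF := block_card_le hsq hr certF_complete blockMidF (subs_closure_bot rfl)
  have hE := block_step hsq hr certE_complete blockMidE (d := 2) (k := 2) (by decide +kernel)
    le_rfl hF
  have hC := block_step hsq hr certC_complete blockMidC (d := 0) (k := 4) (by decide +kernel)
    (by norm_num) hE
  have hB := block_step hsq hr certMB_complete blockMidB (d := 0) (k := 5) (by decide +kernel)
    (by norm_num) hC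
  rw [genSub_blockGen_zero] at hB
  exact hB

theorem small_block {L : ℕ → E} (hsq : ∀ g, L g * L g = 1) (hr : ∀ r ∈ knownOdd, prodW L r = 1) :
    Finite (genSub (blockGen L 2 2) 2) ∧ Nat.card (genSub (blockGen L 2 2) 2) ≤ 16 * 1 :=
  block_card_le hsq hr certF_complete blockMidF (subs_closure_bot rfl)

theorem top_card {L : ℕ → E} (hsq : ∀ g, L g * L g = 1) {known : List (List ℕ)}
    (hsub : ∀ r ∈ knownOdd, r ∈ known) (hr : ∀ r ∈ known, prodW L r = 1) {C : Cert} (c : C.Complete)
    (hC : blockOK C known 0 7 = true) (hs : subsBlockOK C 0 6 = true) :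
    Finite (genSub L 7) ∧
      Nat.card (genSub L 7) ≤ C.N * (416 * (280 * (135 * (16 * 1)))) := by
  have hB := inner_card hsq fun r h => hr r (hsub r h)
  rw [← genSub_blockGen_zero L 6] at hB
  have h := block_step hsq hr c hC hs (by norm_num) hB
  rwa [genSub_blockGen_zero] at h

theorem tau_prodW (τ : E →* Suz) {L : ℕ → E} (hL : ∀ g, τ (L g) = gen g) (w : List ℕ) :
    τ (prodW L w) = prodW gen w := by
  induction w with
  | nil => simp
  | cons g w ih => simp [map_mul, hL, ih]

theorem gen_ge {g : ℕ} (hg : 7 ≤ g) : gen g = 1 := genOf_of_ge (by simpa [letters] using hg)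

/-- Lifts of all generators generate a stem extension. -/
theorem card_le_of_stem {τ : E →* Suz} (hτ : Cfsg.IsStemExtension τ) [Finite E] {L : ℕ → E}
    (hL : ∀ g, τ (L g) = gen g) {n : ℕ} (hn : Nat.card (genSub L 7) ≤ n) :
    Nat.card τ.ker * Nat.card Suz ≤ n := by
  have hmap : (genSub L 7).map τ = ⊤ := by
    rw [eq_top_iff, ← setupA.gen_top, genSub, MonoidHom.map_closure]
    refine Subgroup.closure_mono ?_
    rintro _ ⟨g, hg, rfl⟩
    exact ⟨L g, ⟨g, hg, rfl⟩, hL g⟩
  set W := genSub L 7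
  have hcom : commutator E ≤ W := by
    rw [commutator_def, Subgroup.commutator_le]
    intro x _ y _
    obtain ⟨x', hx', ex⟩ := Subgroup.mem_map.1 (hmap ▸ Subgroup.mem_top (τ x) : τ x ∈ W.map τ)
    obtain ⟨y', hy', ey⟩ := Subgroup.mem_map.1 (hmap ▸ Subgroup.mem_top (τ y) : τ y ∈ W.map τ)
    rw [CfsgLib.Schur.commutatorElement_congr τ hτ.2.1 ex.symm ey.symm, commutatorElement_def]
    exact mul_mem (mul_mem (mul_mem hx' hy') (inv_mem hx')) (inv_mem hy')
  have htop : W = ⊤ := by
    rw [eq_top_iff]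
    intro x _
    obtain ⟨x', hx', ex⟩ := Subgroup.mem_map.1 (hmap ▸ Subgroup.mem_top (τ x) : τ x ∈ W.map τ)
    have hk : x'⁻¹ * x ∈ τ.ker := by rw [MonoidHom.mem_ker, map_mul, map_inv, ex, inv_mul_cancel]
    rw [show x = x' * (x'⁻¹ * x) by rw [mul_inv_cancel_left]]
    exact mul_mem hx' (hcom (hτ.2.2 hk))
  rw [htop, Subgroup.card_top] at hn
  refine le_of_eq_of_le ?_ hn
  rw [← Subgroup.index_mul_card τ.ker, Subgroup.index_ker, MonoidHom.range_eq_top.2 hτ.1,
    Subgroup.card_top, mul_comm]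

theorem eq_sameM {u w : List ℕ} (hu : u.all (fun g => Nat.blt g 7) = true)
    (hw : w.all (fun g => Nat.blt g 7) = true) (h : sameM u w = true) :
    prodW gen u = prodW gen w := by
  simp only [List.all_eq_true, Nat.blt_eq] at hu hw
  exact setupA.eq_of_bases chain_ok (chain_size.trans card_faithful.1.symm) hu hw h

theorem prodW_reverse {L : ℕ → E} (hsq : ∀ g, L g * L g = 1) :
    ∀ w, prodW L w.reverse = (prodW L w)⁻¹
  | [] => by simp
  | g :: w => by
    rw [List.reverse_cons, prodW_append, prodW_reverse hsq w, prodW_cons, prodW_cons, prodW_nil, mul_one,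
      mul_inv_rev, inv_eq_of_mul_eq_one_right (hsq g)]

theorem knownOdd_of {τ : E →* Suz} (hc : τ.ker ≤ Subgroup.center E) {L : ℕ → E}
    (hsq : ∀ g, L g * L g = 1) (hL : ∀ g, τ (L g) = gen g)
    (hcox : ∀ i j, i < 7 → j < 7 → i ≤ j → (L i * L j) ^ lab i j = 1)
    (h1 : prodW L rOne = 1) (h5 : prodW L rFive = 1) : ∀ r ∈ knownOdd, prodW L r = 1 := by
  intro r hr
  simp only [knownOdd, knownBase, knownComm, List.mem_append, List.mem_flatMap, List.mem_filterMap,
    List.mem_map, List.mem_range, List.mem_cons, List.not_mem_nil, or_false] at hr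
  rcases hr with (⟨i, hi, j, hj, e⟩ | rfl | rfl) | ⟨l, hl, g, -, rfl⟩
  · by_cases hij : i ≤ j
    · rw [if_pos hij, Option.some.injEq] at e
      rw [← e, prodW_pairWord]
      exact hcox i j hi hj hij
    · rw [if_neg hij] at e
      exact absurd e (by simp)
  · exact h1
  · exact h5
  · have h := List.all_eq_true.mp loose_ok l hl
    rw [Bool.and_eq_true] at h
    have hk : prodW L l ∈ τ.ker := by
      rw [MonoidHom.mem_ker, tau_prodW τ hL, eq_sameM h.1 rfl h.2, prodW_nil]
    rw [prodW_append, prodW_append, prodW_append, prodW_reverse hsq, prodW_cons, prodW_nil, mul_one,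
      ← mul_assoc (prodW L l), ← Subgroup.mem_center_iff.1 (hc hk) (L g)]
    rw [mul_assoc, mul_inv_cancel_left, hsq]

theorem base_image {τ : E →* Suz} {L : ℕ → E} (hL : ∀ g, τ (L g) = gen g) {r : List ℕ}
    (hr : r ∈ knownBase) : prodW L r ∈ τ.ker := by
  have h := List.all_eq_true.mp knownBase_ok r hr
  rw [Bool.and_eq_true] at h
  rw [MonoidHom.mem_ker, tau_prodW τ hL, eq_sameM h.1 rfl h.2, prodW_nil]

theorem mem_base {i j : ℕ} (hi : i < 7) (hj : j < 7) (hij : i ≤ j) :
    pairWord i j (lab i j) ∈ knownBase := by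
  simp only [knownBase, List.mem_append, List.mem_flatMap, List.mem_filterMap, List.mem_range]
  exact Or.inl ⟨i, hi, j, hj, by rw [if_pos hij]⟩

theorem pair_image {τ : E →* Suz} {L : ℕ → E} (hL : ∀ g, τ (L g) = gen g) {i j : ℕ} (hi : i < 7)
    (hj : j < 7) (hij : i ≤ j) : (L i * L j) ^ lab i j ∈ τ.ker := by
  rw [← prodW_pairWord]
  exact base_image hL (mem_base hi hj hij)

end CfsgLib.SuzPres.Mult
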