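import Cfsg.Agent.Lib.SuzPres.Main
import Cfsg.Agent.Lib.SuzPres.CheckMB
import Cfsg.Agent.Lib.SuzPres.CheckMTwo
import Cfsg.Agent.Lib.SuzPres.CheckMThree
import Cfsg.Agent.Lib.CosetEnum.OutThree

/-!
Relators kept for stem extensions of the presented Suzuki group, and witnesses for its involutions.
-/

set_option autoImplicit false
set_option Elab.async false

namespace CfsgLib.SuzPres.Mult

open CfsgLib.CosetEnum Cfsg.Spor

/-- the labels -/
def lab (i j : ℕ) : ℕ :=
  match i, j with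
  | 0, 1 => 5
  | 1, 2 => 3
  | 1, 5 => 3
  | 1, 6 => 3
  | 2, 3 => 8
  | 3, 4 => 3
  | 5, 6 => 4
  | _, _ => if i = j then 1 else 2

/-- the first further relator -/
def rOne : List ℕ := [0, 3, 2, 3, 2, 3, 2, 3, 2]

/-- the base of the fifth further relator -/
def yWord : List ℕ := [1, 2, 3, 2, 3]

/-- the element of order three of the fifth further relator -/
def xWord : List ℕ := powWord yWord 5

/-- the fifth further relator -/
def rFive : List ℕ := powWord (xWord ++ [4]) 3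

/-- the relators which stay central only -/
def loose : List (List ℕ) :=
  [[0, 6, 5, 6, 5], powWord [0, 1, 2, 5] 5, powWord [1, 5, 6] 5]

/-- the relators known in all covers considered -/
def knownBase : List (List ℕ) :=
  ((List.range 7).flatMap fun i => (List.range 7).filterMap fun j =>
      if i ≤ j then some (pairWord i j (lab i j)) else none) ++ [rOne, rFive]

/-- the centrality of the loose relators -/
def knownComm : List (List ℕ) :=
  loose.flatMap fun r => (List.range 7).map fun g => r ++ ([g] ++ (r.reverse ++ [g]))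

/-- the relators for odd covers -/
def knownOdd : List (List ℕ) := knownBase ++ knownComm

/-- the relators for double covers -/
def knownTwo : List (List ℕ) := knownOdd ++ loose.map fun r => r ++ r

/-- two words agree on the base points -/
noncomputable def sameM (u w : List ℕ) : Bool := sameBases certA levels u w

/-- words with their class representative and a conjugator -/
def witList : List (List ℕ × ℕ × List ℕ) := [
   ([0, 2], 0, [1, 0, 2, 1, 0, 1]),
   ([0, 3], 3, [2, 3, 2]),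
   ([0, 4], 3, [2, 3, 2, 4, 3]),
   ([0, 5], 0, [1, 0, 5, 1, 0, 1]),
   ([0, 6], 0, [1, 0, 6, 1, 0, 1]),
   ([1, 3], 3, [2, 3, 2, 1, 0, 1, 0]),
   ([1, 4], 3, [2, 3, 2, 4, 3, 1, 0, 1, 0]),
   ([2, 4], 3, [2, 3, 2, 1, 0, 1, 4, 3, 2, 0, 1]),
   ([2, 5], 0, [1, 0, 1, 2, 1, 5, 1, 2, 0, 1, 6]),
   ([2, 6], 0, [1, 0, 1, 2, 1, 6, 1, 2, 0, 1, 5]),
   ([3, 5], 3, [2, 3, 2, 1, 0, 1, 5, 0, 1]),
   ([3, 6], 3, [2, 3, 2, 1, 0, 1, 6, 0, 1]),
   ([4, 5], 3, [2, 3, 2, 1, 0, 1, 5, 4, 3, 0, 1]),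
   ([4, 6], 3, [2, 3, 2, 1, 0, 1, 6, 4, 3, 0, 1]),
   ([0], 0, [1, 1]),
   ([2], 0, [1, 0, 1, 2, 0, 1]),
   ([5], 0, [1, 0, 1, 5, 0, 1]),
   ([0, 2], 0, [1, 0, 2, 1, 0, 1]),
   ([0, 5], 0, [1, 0, 5, 1, 0, 1]),
   ([2, 5], 0, [1, 0, 1, 2, 1, 5, 1, 2, 0, 1, 6]),
   ([0, 2, 5], 0, [1, 0, 2, 1, 5, 1, 2, 1, 0, 1]),
   ([2, 1, 4, 5, 6, 1, 2, 3, 2, 1, 6, 5, 4, 1, 2], 3, [2, 1, 6, 5, 4, 1, 2]),
   ([2, 1, 4, 5, 6, 1, 2, 3, 2, 1, 6, 5, 4, 1, 2, 3], 3, [2, 1, 3, 2, 3, 4, 5, 6, 1, 0, 1, 2, 3, 2, 4, 3, 1, 0, 1, 2, 3, 4, 0, 1, 2]),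
   ([0], 0, [1, 1]),
   ([1], 0, [1, 0, 1, 0]),
   ([2], 0, [1, 0, 1, 2, 0, 1]),
   ([3], 3, [2, 2]),
   ([4], 3, [4, 3]),
   ([5], 0, [1, 0, 1, 5, 0, 1]),
   ([6], 0, [1, 0, 1, 6, 0, 1])]

theorem blockTwoA : blockOK certMTwo knownTwo 0 7 = true := by decide +kernel
theorem blockThreeA : blockOK certMThree knownOdd 0 7 = true := by decide +kernel
theorem blockMidB : blockOK certMB knownOdd 0 6 = true := by decide +kernel
theorem blockMidC : blockOK certC knownOdd 0 5 = true := by decide +kernel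
theorem blockMidE : blockOK certE knownOdd 0 4 = true := by decide +kernel
theorem blockMidF : blockOK certF knownOdd 2 2 = true := by decide +kernel

theorem wit_ok : (witList.all fun z => (z.1 ++ z.2.2).all (fun g => Nat.blt g 7) &&
    (Nat.beq z.2.1 0 || Nat.beq z.2.1 3) &&
    sameM (z.1 ++ z.1) [] && sameM (z.2.2 ++ z.1) (z.2.1 :: z.2.2)) = true := by decide +kernel

theorem knownBase_ok : (knownBase.all fun r => r.all (fun g => Nat.blt g 7) && sameM r []) = true := by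
  decide +kernel

theorem loose_ok : (loose.all fun r => r.all (fun g => Nat.blt g 7) && sameM r []) = true := by
  decide +kernel

theorem small_facts : (sameM (powWord yWord 15) [] && sameM [2, 3, 2, 3, 2, 3, 2, 3] [0] &&
    sameM [5, 6, 5, 6] [0] && Nat.beq (certE.run 0 (powWord yWord 15)) 0) = true := by decide +kernel

end CfsgLib.SuzPres.Mult
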