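import Cfsg.Agent.Lib.SuzPres.MultLift

/-!
Stem extensions of the Suzuki group with kernel of odd order.
-/

set_option autoImplicit false

namespace CfsgLib.SuzPres.Mult

open CfsgLib.CosetEnum Cfsg.Spor

variable {E : Type} [Group E] {τ : E →* Suz}

/-- A kernel element killing its own square. -/
theorem odd_one (hodd : Odd (Nat.card τ.ker)) {k : E} (hk : k ∈ τ.ker) (h2 : k * k = 1) : k = 1 := by
  have hn := pow_card_eq_one' (G := τ.ker) (x := ⟨k, hk⟩)
  have hn' : k ^ Nat.card τ.ker = 1 := congrArg Subtype.val hn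
  obtain ⟨m, hm⟩ := hodd
  rw [hm, pow_succ, pow_mul, sq, h2, one_pow, one_mul] at hn'
  exact hn'

/-- Involutions lift to involutions. -/
theorem odd_lift (hτ : Cfsg.IsStemExtension τ) (hodd : Odd (Nat.card τ.ker)) {x : Suz}
    (hx : x * x = 1) : ∃ X : E, τ X = x ∧ X * X = 1 := by
  obtain ⟨X, rfl⟩ := hτ.1 x
  have hk : X * X ∈ τ.ker := by rw [MonoidHom.mem_ker, map_mul, hx]
  obtain ⟨m, hm⟩ := hodd
  have hn : (X * X) ^ Nat.card τ.ker = 1 :=
    congrArg Subtype.val (pow_card_eq_one' (G := τ.ker) (x := ⟨X * X, hk⟩))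
  refine ⟨X * (X * X) ^ m, ?_, ?_⟩
  · rw [map_mul, map_pow, map_mul, hx, one_pow, mul_one]
  · have hc : ((X * X) ^ m) * X = X * (X * X) ^ m := by
      rw [← sq, ← pow_mul]; exact ((Commute.refl X).pow_left _).eq
    rw [mul_assoc X, ← mul_assoc ((X * X) ^ m) X, hc, ← mul_assoc X, ← mul_assoc X X, mul_assoc,
      ← pow_add, ← pow_succ']
    rw [show m + m + 1 = Nat.card τ.ker by omega, hn]

/-- Powers of products of two lifted involutions which are one downstairs. -/
theorem odd_pair (hτ : Cfsg.IsStemExtension τ) (hodd : Odd (Nat.card τ.ker)) {X Y : E}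
    (hX : X * X = 1) (hY : Y * Y = 1) {m : ℕ} (h : (X * Y) ^ m ∈ τ.ker) : (X * Y) ^ m = 1 := by
  refine odd_one hodd h ?_
  have hXi : X⁻¹ = X := inv_eq_of_mul_eq_one_right hX
  have hinv : X * (X * Y) * X⁻¹ = (X * Y)⁻¹ := by
    rw [mul_inv_rev, inv_eq_of_mul_eq_one_right hY, hXi, ← mul_assoc, hX, one_mul]
  have h2 : X * (X * Y) ^ m * X⁻¹ = ((X * Y) ^ m)⁻¹ := by rw [← conj_pow, hinv, inv_pow]
  have h3 : X * (X * Y) ^ m * X⁻¹ = (X * Y) ^ m := by
    rw [Subgroup.mem_center_iff.1 (hτ.2.1 h) X, mul_inv_cancel_right]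
  exact mul_eq_one_iff_eq_inv.2 (h3.symm.trans h2)

/-- Elements generated by two involutions with product of exponent eight. -/
theorem two_gen_pow {U V : E} (hU : U * U = 1) (hV : V * V = 1) (h8 : (U * V) ^ 8 = 1) {z : E}
    (hz : z ∈ Subgroup.closure ({U, V} : Set E)) : z ^ 16 = 1 := by
  have hUi : U⁻¹ = U := inv_eq_of_mul_eq_one_right hU
  have hflip : ∀ k : ℤ, U * (U * V) ^ k = (U * V) ^ (-k) * U := by
    intro k
    have h : U * (U * V) * U⁻¹ = (U * V)⁻¹ := by
      rw [mul_inv_rev, inv_eq_of_mul_eq_one_right hV, hUi, ← mul_assoc, hU, one_mul]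
    rw [zpow_neg, ← inv_zpow, ← h, conj_zpow, inv_mul_cancel_right]
  have key : ∃ k : ℤ, z = (U * V) ^ k ∨ z = (U * V) ^ k * U := by
    induction hz using Subgroup.closure_induction with
    | mem y hy =>
      rcases hy with rfl | rfl
      · exact ⟨0, Or.inr (by simp)⟩
      · exact ⟨-1, Or.inr (by rw [zpow_neg, zpow_one, mul_inv_rev, hUi, inv_eq_of_mul_eq_one_right hV,
          mul_assoc, hU, mul_one])⟩
    | one => exact ⟨0, Or.inl (by simp)⟩
    | mul x y _ _ hx hy =>
      obtain ⟨a, rfl | rfl⟩ := hx <;> obtain ⟨b, rfl | rfl⟩ := hy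
      · exact ⟨a + b, Or.inl (by rw [zpow_add])⟩
      · exact ⟨a + b, Or.inr (by rw [zpow_add, mul_assoc])⟩
      · exact ⟨a + -b, Or.inr (by rw [mul_assoc, hflip, zpow_add, mul_assoc])⟩
      · exact ⟨a + -b, Or.inl (by
          rw [mul_assoc, ← mul_assoc U, hflip, mul_assoc ((U * V) ^ (-b)), hU, mul_one, zpow_add])⟩
    | inv x _ hx =>
      obtain ⟨a, rfl | rfl⟩ := hx
      · exact ⟨-a, Or.inl (by rw [zpow_neg])⟩
      · exact ⟨a, Or.inr (by rw [mul_inv_rev, hUi, ← zpow_neg, hflip, neg_neg])⟩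
  obtain ⟨k, rfl | rfl⟩ := key
  · rw [← zpow_natCast, ← zpow_mul, mul_comm, zpow_mul, zpow_natCast,
      show (16 : ℕ) = 8 * 2 from rfl, pow_mul, h8, one_pow, one_zpow]
  · have h : (U * V) ^ k * U * ((U * V) ^ k * U) = 1 := by
      rw [mul_assoc ((U * V) ^ k), ← mul_assoc U, hflip, mul_assoc ((U * V) ^ (-k)), hU, mul_one,
        ← zpow_add, add_neg_cancel, zpow_zero]
    rw [show (16 : ℕ) = 2 * 8 from rfl, pow_mul, sq, h, one_pow]

theorem odd_bound [Finite E] (hτ : Cfsg.IsStemExtension τ) (hodd : Odd (Nat.card τ.ker)) :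
    Nat.card τ.ker ≤ 3 := by
  choose L0 hL0 hsq0 using fun g : ℕ => odd_lift hτ hodd (gen_sq g)
  set L : ℕ → E := fun g => L0 g with hLdef
  have hcox : ∀ i j, i < 7 → j < 7 → i ≤ j → (L i * L j) ^ lab i j = 1 := fun i j hi hj hij =>
    odd_pair hτ hodd (hsq0 i) (hsq0 j) (pair_image hL0 hi hj hij)
  have comm : ∀ i j, i < 7 → j < 7 → i ≤ j → lab i j = 2 → Commute (L i) (L j) := by
    intro i j hi hj hij h
    have e := hcox i j hi hj hij
    rw [h, sq] at e
    calc L i * L j = (L i * L j)⁻¹ := eq_inv_of_mul_eq_one_left e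
      _ = L j * L i := by
        rw [mul_inv_rev, inv_eq_of_mul_eq_one_right (hsq0 i), inv_eq_of_mul_eq_one_right (hsq0 j)]
  have hR : prodW L rOne = 1 := by
    have e : prodW L rOne = L 0 * (L 3 * L 2) ^ 4 := by
      rw [← prodW_pairWord, rOne, prodW_cons]
      rfl
    have hk : prodW L rOne ∈ τ.ker :=
      base_image hL0 (List.mem_append_right _ List.mem_cons_self)
    rw [e] at hk ⊢
    refine odd_one hodd hk ?_
    set W := (L 3 * L 2) ^ 4 with hW
    have hc : L 2 * (L 0 * W) * (L 2)⁻¹ = L 0 * W⁻¹ := by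
      rw [show L 2 * (L 0 * W) * (L 2)⁻¹ = (L 2 * L 0) * W * (L 2)⁻¹ by group,
        ← (comm 0 2 (by norm_num) (by norm_num) (by norm_num) rfl).eq,
        show L 0 * L 2 * W * (L 2)⁻¹ = L 0 * (L 2 * W * (L 2)⁻¹) by group, hW, ← conj_pow,
        show L 2 * (L 3 * L 2) * (L 2)⁻¹ = L 2 * L 3 by group, ← inv_pow, mul_inv_rev,
        inv_eq_of_mul_eq_one_right (hsq0 2), inv_eq_of_mul_eq_one_right (hsq0 3)]
    have hfix : L 0 * W⁻¹ = L 0 * W := by
      rw [← hc, Subgroup.mem_center_iff.1 (hτ.2.1 hk) (L 2), mul_inv_cancel_right]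
    have hA : Commute (L 0) W := ((comm 0 3 (by norm_num) (by norm_num) (by norm_num) rfl).mul_right
      (comm 0 2 (by norm_num) (by norm_num) (by norm_num) rfl)).pow_right 4
    have hWW : W * W = 1 := by
      have h : W⁻¹ = W := mul_left_cancel hfix
      calc W * W = W * W⁻¹ := by rw [h]
        _ = 1 := mul_inv_cancel W
    rw [mul_assoc, ← mul_assoc W (L 0), ← hA.eq, mul_assoc (L 0) W W, hWW, mul_one, hsq0]
  have hFive : prodW L rFive = 1 := by
    have hs := small_facts
    simp only [Bool.and_eq_true] at hs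
    obtain ⟨⟨⟨hy15, -⟩, -⟩, hrun⟩ := hs
    have hmE : ∀ r ∈ certE.rels, prodW (blockGen L 0 4) r = 1 := by
      intro r hr
      have hne : (certE.rels.all fun r => r.all (fun g => Nat.blt g 4) && knownBase.contains r &&
          !(r == rFive)) = true := by decide +kernel
      simp only [List.all_eq_true, Bool.and_eq_true, List.contains_iff_mem, Bool.not_eq_true',
        beq_eq_false_iff_ne, Nat.blt_eq] at hne
      obtain ⟨⟨hlt, hm⟩, h5⟩ := hne r hr
      rw [prodW_blockGen hlt, show r.map (fun g => g + 0) = r by simp]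
      simp only [knownBase, List.mem_append, List.mem_flatMap, List.mem_filterMap, List.mem_range,
        List.mem_cons, List.not_mem_nil, or_false] at hm
      rcases hm with ⟨i, hi, j, hj, e⟩ | e | e
      · by_cases hij : i ≤ j
        · rw [if_pos hij, Option.some.injEq] at e
          rw [← e, prodW_pairWord]
          exact hcox i j hi hj hij
        · rw [if_neg hij] at e
          exact absurd e (by simp)
      · rw [e]; exact hR
      · exact absurd e h5
    have model : Model certE (Subgroup.closure {y | ∃ w ∈ certE.subs, prodW (blockGen L 0 4) w = y})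
        (blockGen L 0 4) :=
      ⟨by rw [show certE.K = 4 from rfl]; simp [blockGen], fun g => by
        have : certE.inv g = g := by
          rw [Cert.inv, show certE.invs = List.range 4 from rfl, List.getD_eq_getElem?_getD]
          by_cases hg : g < 4 <;> simp [hg]
        rw [this]
        unfold blockGen
        split <;> simp [hsq0, L],
       hmE, fun w hw => Subgroup.subset_closure ⟨w, hw, rfl⟩⟩
    have hlt : ∀ g ∈ powWord yWord 15, g < 4 := by decide +kernel
    have hmem := mem_of_run_eq_zero certE_complete model hlt (Nat.eq_of_beq_eq_true hrun)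
    rw [prodW_blockGen hlt, show (powWord yWord 15).map (fun g => g + 0) = powWord yWord 15 by simp] at hmem
    have hsub : Subgroup.closure {y | ∃ w ∈ certE.subs, prodW (blockGen L 0 4) w = y} ≤
        Subgroup.closure ({L 2, L 3} : Set E) := by
      refine Subgroup.closure_mono ?_
      rintro _ ⟨w, hw, rfl⟩
      rw [show certE.subs = [[2], [3]] from rfl] at hw
      simp only [List.mem_cons, List.not_mem_nil, or_false] at hw
      rcases hw with rfl | rfl <;> simp [blockGen]
    have hk15 : prodW L (powWord yWord 15) ∈ τ.ker := by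
      rw [MonoidHom.mem_ker, tau_prodW τ hL0, eq_sameM (by decide +kernel) rfl hy15, prodW_nil]
    have hY : prodW L (powWord yWord 15) = 1 := by
      have h16 := two_gen_pow (hsq0 2) (hsq0 3) (hcox 2 3 (by norm_num) (by norm_num) (by norm_num))
        (hsub hmem)
      have key : ∀ a : ℕ, prodW L (powWord yWord 15) ^ 2 ^ a = 1 → prodW L (powWord yWord 15) = 1 := by
        intro a
        induction a with
        | zero => intro h; simpa using h
        | succ a ih =>
          intro h
          exact ih (odd_one hodd (pow_mem hk15 _) (by rw [← pow_add, ← two_mul, ← pow_succ']; exact h))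
      exact key 4 (by norm_num; exact h16)
    set X := prodW L xWord with hXdef
    have hX3 : X ^ 3 = 1 := by
      rw [hXdef, xWord, prodW_powWord, ← pow_mul, ← prodW_powWord]
      exact hY
    set F := L 4
    have hF : F * F = 1 := hsq0 4
    have he : prodW L rFive = (X * F) ^ 3 := by
      rw [rFive, prodW_powWord, prodW_append, prodW_cons, prodW_nil, mul_one]
    have hk : (X * F) ^ 3 ∈ τ.ker := by
      rw [← he]
      exact base_image hL0 (List.mem_append_right _ (List.mem_cons_of_mem _ List.mem_cons_self))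
    rw [he]
    have hXi : X⁻¹ = X * X := inv_eq_of_mul_eq_one_right (by rw [← mul_assoc, ← sq, ← pow_succ]; exact hX3)
    set U := X * F * X⁻¹
    set V := X⁻¹ * F * X
    have hU : U * U = 1 := by
      rw [show U * U = X * (F * F) * X⁻¹ by simp only [U]; group, hF, mul_one, mul_inv_cancel]
    have hV : V * V = 1 := by
      rw [show V * V = X⁻¹ * (F * F) * X by simp only [V]; group, hF, mul_one, inv_mul_cancel]
    have hz : (X * F) ^ 3 = U * V * F := by
      rw [show U * V * F = X * F * (X⁻¹ * X⁻¹) * F * (X * F) by simp only [U, V]; group,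
        show X⁻¹ * X⁻¹ = X by rw [hXi, show X * X * (X * X) = X ^ 3 * X by simp only [pow_succ, pow_zero, one_mul, mul_assoc], hX3, one_mul],
        pow_succ, sq, mul_assoc (X * F) X F]
    have hUV : U * V = (X * F) ^ 3 * F := by rw [hz, mul_assoc (U * V), hF, mul_one]
    have hdown : (τ U * τ V) ^ 2 = 1 := by
      rw [← map_mul, hUV, map_mul, MonoidHom.mem_ker.1 hk, one_mul, sq, ← map_mul, hF, map_one]
    have hm : (U * V) ^ 2 = 1 := odd_pair hτ hodd hU hV
      (by rw [MonoidHom.mem_ker, map_pow, map_mul]; exact hdown)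
    refine odd_one hodd hk ?_
    have hc : F * (X * F) ^ 3 = (X * F) ^ 3 * F := Subgroup.mem_center_iff.1 (hτ.2.1 hk) F
    rw [hUV, sq, mul_assoc, ← mul_assoc F, hc, mul_assoc, hF, mul_one] at hm
    exact hm
  have hk := knownOdd_of hτ.2.1 hsq0 hL0 hcox hR hFive
  have h := top_card hsq0 (fun r h => h) hk certMThree_complete blockThreeA (by decide +kernel)
  have h2 := card_le_of_stem hτ hL0 h.2
  rw [card_faithful.1, show certMThree.N = 5346 from rfl] at h2
  omega

end CfsgLib.SuzPres.Mult
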