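/-!
Twelve-dimensional matrices over the field with seven elements for the generators of the sixfold cover.
-/

set_option autoImplicit false

namespace CfsgLib.SuzPres.Rep

/-- the matrix of generator 0 -/
def genMat0 : List (List Nat) :=
  [[3, 0, 6, 0, 0, 3, 2, 0, 6, 0, 1, 0],
   [0, 5, 4, 5, 5, 4, 0, 6, 2, 6, 0, 3],
   [3, 1, 0, 4, 4, 0, 3, 4, 0, 1, 5, 4],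
   [0, 5, 1, 5, 6, 1, 0, 3, 4, 3, 0, 3],
   [0, 5, 1, 3, 5, 2, 0, 3, 2, 5, 0, 5],
   [6, 1, 0, 4, 2, 0, 6, 2, 0, 4, 3, 4],
   [2, 0, 6, 0, 0, 3, 3, 0, 6, 0, 1, 0],
   [0, 3, 1, 6, 6, 2, 0, 5, 2, 6, 0, 3],
   [3, 2, 0, 1, 2, 0, 3, 2, 0, 4, 5, 1],
   [0, 3, 4, 6, 5, 1, 0, 3, 1, 5, 0, 3],
   [4, 0, 5, 0, 0, 6, 4, 0, 5, 0, 3, 0],
   [0, 6, 1, 6, 5, 1, 0, 6, 4, 6, 0, 5]]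

/-- the matrix of generator 1 -/
def genMat1 : List (List Nat) :=
  [[5, 0, 2, 2, 4, 0, 6, 0, 6, 3, 5, 6],
   [0, 3, 6, 3, 3, 1, 0, 1, 0, 0, 0, 0],
   [2, 3, 0, 0, 0, 5, 4, 5, 2, 4, 1, 2],
   [2, 6, 0, 0, 0, 3, 2, 3, 2, 2, 1, 1],
   [1, 6, 0, 0, 0, 3, 4, 3, 1, 4, 4, 2],
   [0, 4, 5, 6, 6, 3, 0, 2, 0, 0, 0, 0],
   [3, 0, 1, 2, 1, 0, 5, 0, 6, 3, 6, 3],
   [0, 4, 5, 6, 6, 2, 0, 3, 0, 0, 0, 0],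
   [3, 0, 2, 2, 4, 0, 3, 0, 5, 5, 3, 3],
   [6, 0, 1, 2, 1, 0, 6, 0, 5, 5, 5, 5],
   [5, 0, 4, 4, 1, 0, 3, 0, 6, 5, 5, 3],
   [3, 0, 2, 4, 2, 0, 6, 0, 6, 5, 6, 5]]

/-- the matrix of generator 2 -/
def genMat2 : List (List Nat) :=
  [[2, 3, 0, 3, 1, 0, 3, 2, 4, 0, 1, 4],
   [6, 0, 4, 0, 5, 4, 0, 6, 3, 4, 5, 3],
   [0, 1, 4, 4, 0, 5, 2, 0, 0, 5, 0, 0],
   [6, 0, 1, 0, 6, 1, 0, 3, 5, 1, 5, 3],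
   [4, 5, 0, 3, 2, 0, 6, 2, 2, 0, 4, 4],
   [0, 1, 5, 4, 0, 4, 2, 0, 0, 5, 0, 0],
   [6, 0, 2, 0, 3, 2, 0, 5, 6, 2, 5, 3],
   [2, 3, 0, 6, 2, 0, 5, 2, 2, 0, 2, 2],
   [1, 6, 0, 5, 2, 0, 3, 2, 2, 0, 1, 1],
   [0, 1, 5, 4, 0, 5, 2, 0, 0, 4, 0, 0],
   [4, 5, 0, 5, 1, 0, 5, 2, 4, 0, 2, 1],
   [1, 6, 0, 6, 1, 0, 6, 2, 4, 0, 4, 2]]

/-- the matrix of generator 3 -/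
def genMat3 : List (List Nat) :=
  [[6, 5, 3, 2, 2, 5, 2, 6, 3, 0, 3, 6],
   [3, 6, 5, 4, 3, 1, 3, 1, 5, 6, 5, 3],
   [5, 3, 6, 5, 5, 1, 4, 5, 0, 3, 6, 4],
   [2, 0, 3, 2, 6, 5, 6, 6, 3, 5, 3, 2],
   [2, 5, 3, 6, 6, 4, 6, 6, 3, 0, 1, 6],
   [3, 0, 4, 3, 1, 2, 3, 3, 5, 6, 5, 3],
   [2, 5, 1, 6, 6, 5, 2, 0, 3, 5, 3, 6],
   [6, 4, 3, 6, 6, 5, 1, 6, 3, 5, 4, 6],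
   [5, 3, 1, 5, 5, 3, 5, 5, 6, 1, 6, 2],
   [4, 6, 5, 3, 4, 6, 3, 3, 4, 6, 5, 3],
   [5, 3, 6, 5, 4, 3, 5, 0, 6, 3, 2, 4],
   [6, 5, 1, 2, 6, 5, 6, 6, 0, 5, 1, 6]]

/-- the matrix of generator 4 -/
def genMat4 : List (List Nat) :=
  [[1, 1, 1, 4, 2, 5, 2, 1, 4, 6, 3, 6],
   [1, 1, 5, 3, 2, 5, 2, 1, 6, 1, 2, 4],
   [1, 5, 1, 4, 2, 1, 3, 1, 6, 6, 2, 4],
   [2, 0, 2, 5, 4, 2, 4, 2, 1, 2, 4, 0],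
   [4, 4, 4, 2, 1, 4, 1, 6, 0, 4, 0, 2],
   [5, 5, 1, 4, 2, 5, 2, 6, 4, 1, 2, 4],
   [4, 4, 6, 2, 1, 4, 5, 3, 2, 4, 1, 3],
   [1, 1, 1, 4, 3, 0, 0, 1, 4, 1, 2, 4],
   [2, 3, 3, 1, 3, 2, 4, 2, 1, 2, 6, 1],
   [0, 1, 0, 4, 2, 1, 2, 1, 4, 5, 2, 4],
   [6, 4, 4, 2, 6, 4, 1, 4, 3, 4, 1, 3],
   [3, 2, 2, 6, 4, 2, 6, 2, 1, 2, 6, 1]]

/-- the matrix of generator 5 -/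
def genMat5 : List (List Nat) :=
  [[0, 4, 6, 0, 2, 4, 5, 2, 1, 0, 6, 2],
   [1, 5, 0, 2, 3, 3, 0, 6, 5, 1, 0, 5],
   [3, 0, 3, 3, 0, 0, 4, 0, 0, 6, 2, 0],
   [0, 2, 6, 0, 1, 2, 5, 4, 2, 0, 6, 4],
   [2, 6, 0, 4, 5, 5, 0, 6, 5, 2, 0, 5],
   [1, 6, 0, 2, 5, 5, 0, 5, 3, 1, 0, 3],
   [5, 0, 1, 5, 0, 0, 3, 0, 0, 3, 1, 0],
   [2, 3, 0, 1, 3, 5, 0, 5, 5, 1, 0, 6],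
   [4, 5, 0, 2, 5, 6, 0, 5, 5, 2, 0, 6],
   [0, 4, 3, 0, 2, 4, 6, 4, 2, 0, 3, 4],
   [3, 0, 2, 3, 0, 0, 4, 0, 0, 6, 3, 0],
   [2, 5, 0, 1, 5, 6, 0, 3, 3, 1, 0, 5]]

/-- the matrix of generator 6 -/
def genMat6 : List (List Nat) :=
  [[0, 0, 2, 5, 2, 3, 6, 5, 6, 2, 0, 3],
   [0, 0, 4, 5, 4, 5, 6, 6, 3, 4, 0, 3],
   [2, 1, 4, 0, 5, 0, 0, 0, 0, 5, 4, 0],
   [5, 5, 0, 2, 0, 1, 4, 2, 4, 0, 5, 1],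
   [2, 1, 5, 0, 4, 0, 0, 0, 0, 5, 4, 0],
   [6, 5, 0, 4, 0, 2, 4, 2, 2, 0, 3, 4],
   [3, 3, 0, 1, 0, 1, 2, 2, 4, 0, 3, 4],
   [5, 3, 0, 2, 0, 2, 2, 2, 2, 0, 6, 2],
   [3, 6, 0, 1, 0, 2, 1, 2, 2, 0, 5, 1],
   [2, 1, 5, 0, 5, 0, 0, 0, 0, 4, 4, 0],
   [0, 0, 1, 5, 1, 6, 6, 3, 5, 1, 0, 3],
   [6, 6, 0, 4, 0, 1, 1, 2, 4, 0, 6, 2]]

/-- the seven matrices -/
def genMats : List (List (List Nat)) := [genMat0, genMat1, genMat2, genMat3, genMat4, genMat5, genMat6]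

/-- the squares -/
def genSigns : List Nat := [1, 1, 1, 6, 6, 1, 1]

end CfsgLib.SuzPres.Rep
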