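import Cfsg.Agent.Lib.PackMat.Mod7
import Cfsg.Agent.Lib.SuzPres.MultRepData

/-!
Checkable facts about the twelve-dimensional matrices of the sixfold cover.
-/

set_option autoImplicit false

namespace CfsgLib.SuzPres.Rep

open CfsgLib.PackMat

/-- the matrix of a generator -/
def genM (g : ℕ) : List (List ℕ) := genMats.getD g (scalM 1)

/-- the product of a word -/
def evalM : List ℕ → List (List ℕ)
  | [] => scalM 1
  | g :: w => mulM (genM g) (evalM w)

/-- a word evaluates to a scalar -/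
def scalarOK (z : List ℕ × ℕ) : Bool := evalM z.1 == scalM z.2

/-- the scalars of the Coxeter relators, in the order `i ≤ j` -/
def coxVals : List (List ℕ) :=
  [[1, 1, 1, 6, 6, 1, 1], [1, 1, 6, 6, 6, 1, 6], [1, 6, 1, 1, 6, 1, 1], [6, 6, 1, 6, 6, 6, 6],
   [6, 6, 6, 6, 6, 6, 6], [1, 1, 1, 6, 6, 1, 1], [1, 6, 1, 6, 6, 1, 1]]

/-- the anticommuting pair of lifts of commuting involutions -/
def antiWord : List ℕ := [2, 1, 4, 5, 6, 1, 2, 3, 2, 1, 6, 5, 4, 1, 2]

end CfsgLib.SuzPres.Rep
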