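import Cfsg.Agent.Lib.SuzPres.OutBase

/-!
The centralizer search in the action on 1782 cosets.
-/

set_option autoImplicit false
set_option linter.style.longLine false
set_option Elab.async false

namespace CfsgLib.SuzPres

open CfsgLib.CosetEnum

theorem v_four : Cert.allPts certA.N (fun x =>
    !(Nat.beq (certA.run x (certA.revInv vWordA)) x) || (Nat.beq x 0 || Nat.beq x qOne || Nat.beq x qTwo || Nat.beq x qThree)) = true := by
  decide +kernel

theorem v_first : certA.firstFixOK twoMask vWordA 4 7 196 fixPairs = true := by decide +kernel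

theorem vForced0_ok : Cert.allPts certA.N (certA.forcedAt twoMask (certA.extend vWordA 7 fixPairs 196 196) 1) = true := by
  decide +kernel

theorem vForced1_ok : Cert.allPts certA.N (certA.forcedAt twoMask (certA.extend vWordA 7 (certA.extend vWordA 7 fixPairs 196 196) 1 1) 4) = true := by
  decide +kernel

theorem vForced2_ok : Cert.allPts certA.N (certA.forcedAt twoMask (certA.extend vWordA 7 (certA.extend vWordA 7 (certA.extend vWordA 7 fixPairs 196 196) 1 1) 4 4) 5) = true := by
  decide +kernel

theorem vForced3_ok : Cert.allPts certA.N (certA.forcedAt twoMask (certA.extend vWordA 7 (certA.extend vWordA 7 (certA.extend vWordA 7 (certA.extend vWordA 7 fixPairs 196 196) 1 1) 4 4) 5 5) 14) = true := by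
  decide +kernel

theorem vForced4_ok : Cert.allPts certA.N (certA.forcedAt twoMask (certA.extend vWordA 7 (certA.extend vWordA 7 (certA.extend vWordA 7 (certA.extend vWordA 7 (certA.extend vWordA 7 fixPairs 196 196) 1 1) 4 4) 5 5) 14 14) 24) = true := by
  decide +kernel

theorem vForced5_ok : Cert.allPts certA.N (certA.forcedAt twoMask (certA.extend vWordA 7 (certA.extend vWordA 7 (certA.extend vWordA 7 (certA.extend vWordA 7 (certA.extend vWordA 7 (certA.extend vWordA 7 fixPairs 196 196) 1 1) 4 4) 5 5) 14 14) 24 24) 57) = true := by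
  decide +kernel

theorem vForced6_ok : Cert.allPts certA.N (certA.forcedAt twoMask (certA.extend vWordA 7 (certA.extend vWordA 7 (certA.extend vWordA 7 (certA.extend vWordA 7 (certA.extend vWordA 7 (certA.extend vWordA 7 (certA.extend vWordA 7 fixPairs 196 196) 1 1) 4 4) 5 5) 14 14) 24 24) 57 57) 83) = true := by
  decide +kernel

theorem vForced7_ok : Cert.allPts certA.N (certA.forcedAt twoMask (certA.extend vWordA 7 (certA.extend vWordA 7 (certA.extend vWordA 7 (certA.extend vWordA 7 (certA.extend vWordA 7 (certA.extend vWordA 7 (certA.extend vWordA 7 (certA.extend vWordA 7 fixPairs 196 196) 1 1) 4 4) 5 5) 14 14) 24 24) 57 57) 83 83) 129) = true := by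
  decide +kernel

theorem vForced8_ok : Cert.allPts certA.N (certA.forcedAt twoMask (certA.extend vWordA 7 (certA.extend vWordA 7 (certA.extend vWordA 7 (certA.extend vWordA 7 (certA.extend vWordA 7 (certA.extend vWordA 7 (certA.extend vWordA 7 (certA.extend vWordA 7 (certA.extend vWordA 7 fixPairs 196 196) 1 1) 4 4) 5 5) 14 14) 24 24) 57 57) 83 83) 129 129) 168) = true := by
  decide +kernel

theorem vForced9_ok : Cert.allPts certA.N (certA.forcedAt twoMask (certA.extend vWordA 7 (certA.extend vWordA 7 (certA.extend vWordA 7 (certA.extend vWordA 7 (certA.extend vWordA 7 (certA.extend vWordA 7 (certA.extend vWordA 7 (certA.extend vWordA 7 (certA.extend vWordA 7 (certA.extend vWordA 7 fixPairs 196 196) 1 1) 4 4) 5 5) 14 14) 24 24) 57 57) 83 83) 129 129) 168 168) 179) = true := by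
  decide +kernel

theorem vForced10_ok : Cert.allPts certA.N (certA.forcedAt twoMask (certA.extend vWordA 7 (certA.extend vWordA 7 (certA.extend vWordA 7 (certA.extend vWordA 7 (certA.extend vWordA 7 (certA.extend vWordA 7 (certA.extend vWordA 7 (certA.extend vWordA 7 (certA.extend vWordA 7 (certA.extend vWordA 7 (certA.extend vWordA 7 fixPairs 196 196) 1 1) 4 4) 5 5) 14 14) 24 24) 57 57) 83 83) 129 129) 168 168) 179 179) 189) = true := by
  decide +kernel

theorem vForced11_ok : Cert.allPts certA.N (certA.forcedAt twoMask (certA.extend vWordA 7 (certA.extend vWordA 7 (certA.extend vWordA 7 (certA.extend vWordA 7 (certA.extend vWordA 7 (certA.extend vWordA 7 (certA.extend vWordA 7 (certA.extend vWordA 7 (certA.extend vWordA 7 (certA.extend vWordA 7 (certA.extend vWordA 7 (certA.extend vWordA 7 fixPairs 196 196) 1 1) 4 4) 5 5) 14 14) 24 24) 57 57) 83 83) 129 129) 168 168) 179 179) 189 189) 2) = true := by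
  decide +kernel

theorem vForced12_ok : Cert.allPts certA.N (certA.forcedAt twoMask (certA.extend vWordA 7 (certA.extend vWordA 7 (certA.extend vWordA 7 (certA.extend vWordA 7 (certA.extend vWordA 7 (certA.extend vWordA 7 (certA.extend vWordA 7 (certA.extend vWordA 7 (certA.extend vWordA 7 (certA.extend vWordA 7 (certA.extend vWordA 7 (certA.extend vWordA 7 (certA.extend vWordA 7 fixPairs 196 196) 1 1) 4 4) 5 5) 14 14) 24 24) 57 57) 83 83) 129 129) 168 168) 179 179) 189 189) 2 2) 160) = true := by
  decide +kernel

theorem v_search :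
    certA.searchOK twoMask vWordA 4 7 (levels.map Level.base) [[]] vSeq (certA.extend vWordA 7 fixPairs 196 196) = true :=
  (certA.searchOK_of_forced (d' := (certA.extend vWordA 7 fixPairs 196 196)) (by decide +kernel) (by decide +kernel)
      (by decide +kernel) vForced0_ok (certA.searchOK_of_forced (d' := (certA.extend vWordA 7 (certA.extend vWordA 7 fixPairs 196 196) 1 1)) (by decide +kernel) (by decide +kernel)
      (by decide +kernel) vForced1_ok (certA.searchOK_of_forced (d' := (certA.extend vWordA 7 (certA.extend vWordA 7 (certA.extend vWordA 7 fixPairs 196 196) 1 1) 4 4)) (by decide +kernel) (by decide +kernel)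
      (by decide +kernel) vForced2_ok (certA.searchOK_of_forced (d' := (certA.extend vWordA 7 (certA.extend vWordA 7 (certA.extend vWordA 7 (certA.extend vWordA 7 fixPairs 196 196) 1 1) 4 4) 5 5)) (by decide +kernel) (by decide +kernel)
      (by decide +kernel) vForced3_ok (certA.searchOK_of_forced (d' := (certA.extend vWordA 7 (certA.extend vWordA 7 (certA.extend vWordA 7 (certA.extend vWordA 7 (certA.extend vWordA 7 fixPairs 196 196) 1 1) 4 4) 5 5) 14 14)) (by decide +kernel) (by decide +kernel)
      (by decide +kernel) vForced4_ok (certA.searchOK_of_forced (d' := (certA.extend vWordA 7 (certA.extend vWordA 7 (certA.extend vWordA 7 (certA.extend vWordA 7 (certA.extend vWordA 7 (certA.extend vWordA 7 fixPairs 196 196) 1 1) 4 4) 5 5) 14 14) 24 24)) (by decide +kernel) (by decide +kernel)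
      (by decide +kernel) vForced5_ok (certA.searchOK_of_forced (d' := (certA.extend vWordA 7 (certA.extend vWordA 7 (certA.extend vWordA 7 (certA.extend vWordA 7 (certA.extend vWordA 7 (certA.extend vWordA 7 (certA.extend vWordA 7 fixPairs 196 196) 1 1) 4 4) 5 5) 14 14) 24 24) 57 57)) (by decide +kernel) (by decide +kernel)
      (by decide +kernel) vForced6_ok (certA.searchOK_of_forced (d' := (certA.extend vWordA 7 (certA.extend vWordA 7 (certA.extend vWordA 7 (certA.extend vWordA 7 (certA.extend vWordA 7 (certA.extend vWordA 7 (certA.extend vWordA 7 (certA.extend vWordA 7 fixPairs 196 196) 1 1) 4 4) 5 5) 14 14) 24 24) 57 57) 83 83)) (by decide +kernel) (by decide +kernel)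
      (by decide +kernel) vForced7_ok (certA.searchOK_of_forced (d' := (certA.extend vWordA 7 (certA.extend vWordA 7 (certA.extend vWordA 7 (certA.extend vWordA 7 (certA.extend vWordA 7 (certA.extend vWordA 7 (certA.extend vWordA 7 (certA.extend vWordA 7 (certA.extend vWordA 7 fixPairs 196 196) 1 1) 4 4) 5 5) 14 14) 24 24) 57 57) 83 83) 129 129)) (by decide +kernel) (by decide +kernel)
      (by decide +kernel) vForced8_ok (certA.searchOK_of_forced (d' := (certA.extend vWordA 7 (certA.extend vWordA 7 (certA.extend vWordA 7 (certA.extend vWordA 7 (certA.extend vWordA 7 (certA.extend vWordA 7 (certA.extend vWordA 7 (certA.extend vWordA 7 (certA.extend vWordA 7 (certA.extend vWordA 7 fixPairs 196 196) 1 1) 4 4) 5 5) 14 14) 24 24) 57 57) 83 83) 129 129) 168 168)) (by decide +kernel) (by decide +kernel)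
      (by decide +kernel) vForced9_ok (certA.searchOK_of_forced (d' := (certA.extend vWordA 7 (certA.extend vWordA 7 (certA.extend vWordA 7 (certA.extend vWordA 7 (certA.extend vWordA 7 (certA.extend vWordA 7 (certA.extend vWordA 7 (certA.extend vWordA 7 (certA.extend vWordA 7 (certA.extend vWordA 7 (certA.extend vWordA 7 fixPairs 196 196) 1 1) 4 4) 5 5) 14 14) 24 24) 57 57) 83 83) 129 129) 168 168) 179 179)) (by decide +kernel) (by decide +kernel)
      (by decide +kernel) vForced10_ok (certA.searchOK_of_forced (d' := (certA.extend vWordA 7 (certA.extend vWordA 7 (certA.extend vWordA 7 (certA.extend vWordA 7 (certA.extend vWordA 7 (certA.extend vWordA 7 (certA.extend vWordA 7 (certA.extend vWordA 7 (certA.extend vWordA 7 (certA.extend vWordA 7 (certA.extend vWordA 7 (certA.extend vWordA 7 fixPairs 196 196) 1 1) 4 4) 5 5) 14 14) 24 24) 57 57) 83 83) 129 129) 168 168) 179 179) 189 189)) (by decide +kernel) (by decide +kernel)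
      (by decide +kernel) vForced11_ok (certA.searchOK_of_forced (d' := (certA.extend vWordA 7 (certA.extend vWordA 7 (certA.extend vWordA 7 (certA.extend vWordA 7 (certA.extend vWordA 7 (certA.extend vWordA 7 (certA.extend vWordA 7 (certA.extend vWordA 7 (certA.extend vWordA 7 (certA.extend vWordA 7 (certA.extend vWordA 7 (certA.extend vWordA 7 (certA.extend vWordA 7 fixPairs 196 196) 1 1) 4 4) 5 5) 14 14) 24 24) 57 57) 83 83) 129 129) 168 168) 179 179) 189 189) 2 2)) (by decide +kernel) (by decide +kernel)
      (by decide +kernel) vForced12_ok (by decide +kernel))))))))))))))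

end CfsgLib.SuzPres
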