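import Cfsg.Agent.Lib.SuzPres.OutBase

/-!
Kernel check of the depths of the nodes.
-/

set_option autoImplicit false
set_option linter.style.longLine false
set_option Elab.async false

namespace CfsgLib.SuzPres

open CfsgLib.CosetEnum

theorem depthP_ok0 : allUp (certP.depthOK depthTabP) 13 (0 * 2 ^ 13) = true := by decide +kernel

theorem depthP_ok1 : allUp (certP.depthOK depthTabP) 13 (1 * 2 ^ 13) = true := by decide +kernel

theorem depthP_ok2 : allUp (certP.depthOK depthTabP) 13 (2 * 2 ^ 13) = true := by decide +kernel

theorem depthP_ok3 : allUp (certP.depthOK depthTabP) 13 (3 * 2 ^ 13) = true := by decide +kernel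

end CfsgLib.SuzPres
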