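import Cfsg.Agent.Lib.SuzPres.SuborbitP0
import Cfsg.Agent.Lib.SuzPres.SuborbitP1
import Cfsg.Agent.Lib.SuzPres.SuborbitP2
import Cfsg.Agent.Lib.SuzPres.SuborbitP3

/-!
The suborbits cover the cosets.
-/

set_option autoImplicit false
set_option linter.style.longLine false
set_option Elab.async false

namespace CfsgLib.SuzPres
open CfsgLib.CosetEnum

/-- the suborbits away from the base coset -/
def subMasksP : List ℕ := [subMaskP0, subMaskP1, subMaskP2, subMaskP3]

theorem coverP0 : Cert.blockPts certP.N (maskCover certP subMasksP) 12 0 = true := by decide +kernel

theorem coverP1 : Cert.blockPts certP.N (maskCover certP subMasksP) 12 1 = true := by decide +kernel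

theorem coverP2 : Cert.blockPts certP.N (maskCover certP subMasksP) 12 2 = true := by decide +kernel

theorem coverP3 : Cert.blockPts certP.N (maskCover certP subMasksP) 12 3 = true := by decide +kernel

theorem coverP4 : Cert.blockPts certP.N (maskCover certP subMasksP) 12 4 = true := by decide +kernel

theorem coverP5 : Cert.blockPts certP.N (maskCover certP subMasksP) 12 5 = true := by decide +kernel

theorem subMasksP_cover : ∀ x < certP.N, maskCover certP subMasksP x = true :=
  Cert.allPts_spec (Cert.allPts_of_blockPts (k := 12) (b := 6) (by decide +kernel) (by decide +kernel)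
    fun j hj => by
      match j, hj with
      | 0, _ => exact coverP0
      | 1, _ => exact coverP1
      | 2, _ => exact coverP2
      | 3, _ => exact coverP3
      | 4, _ => exact coverP4
      | 5, _ => exact coverP5
      | i + 6, h => omega)

end CfsgLib.SuzPres
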