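import Cfsg.Agent.Lib.SuzPres.OutFacts
import Cfsg.Agent.Lib.SuzPres.OutCent
import Cfsg.Agent.Lib.SuzPres.OutRep
import Cfsg.Agent.Lib.SuzPres.CheckPAction
import Cfsg.Agent.Lib.SuzPres.SuborbitsP
import Cfsg.Agent.Lib.SuzPres.CheckSuzTup0
import Cfsg.Agent.Lib.SuzPres.CheckSuzTup1
import Cfsg.Agent.Lib.SuzPres.CheckSuzTup2
import Cfsg.Agent.Lib.SuzPres.CheckSuzTup3
import Cfsg.Agent.Lib.SuzPres.CheckSuzTup4
import Cfsg.Agent.Lib.SuzPres.CheckSuzTup5
import Cfsg.Agent.Lib.SuzPres.CheckSuzTup6

/-!
The outer automorphism group of the presented Suzuki group has order two.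
-/

set_option autoImplicit false

namespace CfsgLib.SuzPres

open CfsgLib.CosetEnum Cfsg.Spor

theorem hsize : chainSize certA levels = Nat.card Suz := chain_size.trans card_faithful.1.symm

theorem lt_seven {w : List ℕ} (h : (w.all fun g => Nat.blt g 7) = true) : ∀ g ∈ w, g < certA.K := by
  simpa only [List.all_eq_true, Nat.blt_eq, show certA.K = 7 from rfl] using h

theorem t_lt : ∀ g ∈ tWord, g < certA.K := lt_seven (List.all_eq_true.mp words_ok tWord (by simp))
theorem v_lt : ∀ g ∈ vWordA, g < certA.K := lt_seven (List.all_eq_true.mp words_ok vWordA (by simp))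

theorem app_lt {u w : List ℕ} (hu : ∀ g ∈ u, g < certA.K) (hw : ∀ g ∈ w, g < certA.K) :
    ∀ g ∈ u ++ w, g < certA.K := fun g hg => (List.mem_append.mp hg).elim (hu g) (hw g)

theorem rev_lt {w : List ℕ} (hw : ∀ g ∈ w, g < certA.K) : ∀ g ∈ certA.revInv w, g < certA.K := by
  intro g hg
  simp only [Cert.revInv, List.mem_reverse, List.mem_map] at hg
  obtain ⟨g', hg', rfl⟩ := hg
  exact setupA.complete.inv_lt (hw g' hg')

theorem toFirst_lt {g : ℕ} (hg : g < 7) : toFirst g < certA.K := by
  have h := List.all_eq_true.mp toFirst_ok g (List.mem_range.mpr hg)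
  rw [Nat.blt_eq] at h
  exact h

theorem map_lt {w : List ℕ} (hw : ∀ g ∈ w, g < 7) : ∀ g ∈ w.map toFirst, g < certA.K := by
  intro g hg
  obtain ⟨g', hg', rfl⟩ := List.mem_map.mp hg
  exact toFirst_lt (hw g' hg')

theorem eq_same {u w : List ℕ} (hu : ∀ g ∈ u, g < certA.K) (hw : ∀ g ∈ w, g < certA.K)
    (h : sameA u w = true) : prodW gen u = prodW gen w :=
  setupA.eq_of_bases chain_ok hsize hu hw h

theorem ne_same {u w : List ℕ} (hu : ∀ g ∈ u, g < certA.K) (hw : ∀ g ∈ w, g < certA.K)
    (h : sameA u w = false) : prodW gen u ≠ prodW gen w := by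
  simp only [sameA, sameBases, List.all_eq_false, Bool.not_eq_true] at h
  obtain ⟨l, hl, hne⟩ := h
  have hb : (levels.all fun l => Nat.blt l.base certA.N) = true := by decide +kernel
  simp only [List.all_eq_true, Nat.blt_eq] at hb
  exact setupA.ne_of_run hu hw (hb l hl) hne

theorem nil_lt : ∀ g ∈ ([] : List ℕ), g < certA.K := by simp

theorem genP_eq {g : ℕ} (hg : g < 7) : genP g = gen (toFirst g) := by
  interval_cases g <;> rfl

theorem prodW_genP {w : List ℕ} (hw : ∀ g ∈ w, g < 7) :
    prodW genP w = prodW gen (w.map toFirst) := by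
  simp only [prodW, List.map_map]
  exact congrArg List.prod (List.map_congr_left fun g hg => genP_eq (hw g hg))

/-- the element of order three -/
noncomputable def tElt : Suz := prodW gen tWord

theorem prodW_genP_t : prodW genP tWord = tElt := by
  rw [prodW_genP (fun g hg => t_lt g hg), beq_iff_eq.mp tWord_fixed, tElt]

theorem t_three : tElt * tElt * tElt = 1 ∧ tElt ≠ 1 := by
  constructor
  · have h := eq_same (app_lt t_lt (app_lt t_lt t_lt)) nil_lt t_cube
    rwa [prodW_append, prodW_append, prodW_nil, ← mul_assoc] at h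
  · simpa [tElt] using ne_same t_lt nil_lt t_moves

theorem t_order : orderOf tElt = 3 := by
  haveI : Fact (Nat.Prime 3) := ⟨by norm_num⟩
  exact orderOf_eq_prime (by rw [pow_succ, pow_two]; exact t_three.1) t_three.2

theorem subP_norm : ∀ h ∈ subP,
    (Subgroup.zpowers tElt).map (MulAut.conj h).toMonoidHom = Subgroup.zpowers tElt := by
  intro h hh
  rw [subP, genSub] at hh
  induction hh using Subgroup.closure_induction with
  | mem y hy =>
    obtain ⟨g, hg, rfl⟩ := hy
    rw [map_conj_zpowers]
    have hg7 : g < 7 := by omega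
    have hsq : genP g * genP g = 1 := genP_sq g
    have hwl : ∀ l ∈ toFirst g :: (tWord ++ [toFirst g]), l < certA.K := by
      intro l hl
      rcases List.mem_cons.mp hl with rfl | hl
      · exact toFirst_lt hg7
      · exact app_lt t_lt (by simpa using toFirst_lt hg7) l hl
    have e : genP g * tElt * (genP g)⁻¹ = prodW gen (toFirst g :: (tWord ++ [toFirst g])) := by
      rw [inv_eq_of_mul_eq_one_right hsq, genP_eq hg7]
      simp [prodW_append, tElt, mul_assoc]
    have ht := List.all_eq_true.mp t_norm g (List.mem_range.mpr hg)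
    rw [Bool.or_eq_true] at ht
    rcases ht with ht | ht
    · rw [e, eq_same hwl t_lt ht]; rfl
    · rw [e, eq_same hwl (rev_lt t_lt) ht, setupA.model.revInv_eq, Subgroup.zpowers_inv]; rfl
  | one =>
    rw [map_conj_zpowers]
    simp
  | mul x y _ _ hx hy =>
    rw [show (MulAut.conj (x * y)).toMonoidHom =
      (MulAut.conj x).toMonoidHom.comp (MulAut.conj y).toMonoidHom from by
        rw [map_mul]; rfl, ← Subgroup.map_map, hy, hx]
  | inv x _ hx =>
    conv_lhs => rw [← hx, Subgroup.map_map]
    rw [map_conj_zpowers] at hx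
    rw [show (MulAut.conj x⁻¹).toMonoidHom.comp (MulAut.conj x).toMonoidHom = MonoidHom.id Suz from by
      ext z; simp [mul_assoc], Subgroup.map_id]

theorem exists_actionP : ∃ ρ : Suz →* Equiv.Perm (Fin certP.N),
    ∀ g < certP.K, ρ (genP g) = letterPerm certP_complete certP_action g :=
  exists_presAction mem_lettersP (by decide) extraWordsP presP certP_complete certP_action

/-- the action on the 22880 cosets -/
noncomputable def rhoP : Suz →* Equiv.Perm (Fin certP.N) := exists_actionP.choose

theorem setupP : Setup certP subP genP rhoP where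
  complete := certP_complete
  action := certP_action
  model := modelP subP fun w hw => by
    rw [subP, ← subs_closure_genSub (C := certP) (k := 6) (by decide +kernel)]
    exact Subgroup.subset_closure ⟨w, hw, rfl⟩
  gen_top := presGen_top mem_lettersP rfl
  rho_gen := exists_actionP.choose_spec
  H_eq := (subs_closure_genSub (C := certP) (k := 6) (by decide +kernel)).symm

theorem repWordsP : setupP.RepWords :=
  setupP.repWords_of_depth (dep := depthTabP) (k := 13) (b := 4) (by decide +kernel) fun j hj => by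
    match j, hj with
    | 0, _ => exact depthP_ok0
    | 1, _ => exact depthP_ok1
    | 2, _ => exact depthP_ok2
    | 3, _ => exact depthP_ok3
    | n + 4, h => omega

theorem rep_lt (x : Fin certP.N) : ∀ g ∈ certP.repWord x, g < 7 :=
  (setupP.coreRep_eq repWordsP x).1

theorem rawAt_lt (x : Fin certP.N) :
    ∀ g ∈ certP.revInv (certP.repWord x) ++ (tWord ++ certP.repWord x), g < 7 := by
  intro g hg
  rcases List.mem_append.mp hg with hg | hg
  · simp only [Cert.revInv, List.mem_reverse, List.mem_map] at hg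
    obtain ⟨g', hg', rfl⟩ := hg
    exact setupP.complete.inv_lt (rep_lt x g' hg')
  · rcases List.mem_append.mp hg with hg | hg
    · exact t_lt g hg
    · exact rep_lt x g hg

theorem tAt_lt (x : Fin certP.N) : ∀ g ∈ tAt x, g < certA.K := map_lt (rawAt_lt x)

theorem conjP_eq (x : Fin certP.N) : conjAt certP genP tElt x = prodW gen (tAt x) := by
  rw [tAt, ← prodW_genP (rawAt_lt x), prodW_append, prodW_append, setupP.model.revInv_eq,
    prodW_genP_t, conjAt, (setupP.coreRep_eq repWordsP x).2, mul_assoc]

theorem pair_words {u w : List ℕ} (hu : ∀ g ∈ u, g < certA.K) (hw : ∀ g ∈ w, g < certA.K) :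
    prodW gen (sqWord u w) = prodW gen u * prodW gen w * (prodW gen u * prodW gen w) ∧
      ∀ g ∈ sqWord u w, g < certA.K :=
  ⟨by simp [sqWord, prodW_append, mul_assoc], app_lt hu (app_lt hw (app_lt hu hw))⟩

theorem conjP_three (x : Fin certP.N) : conjAt certP genP tElt x * conjAt certP genP tElt x *
    conjAt certP genP tElt x = 1 := by
  set c := coreRep certP genP x
  rw [conjAt, show c⁻¹ * tElt * c * (c⁻¹ * tElt * c) * (c⁻¹ * tElt * c) =
      c⁻¹ * (tElt * tElt * tElt) * c by group, t_three.1, mul_one, inv_mul_cancel]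

theorem conjP_ne (x : Fin certP.N) : conjAt certP genP tElt x ≠ 1 := by
  intro e
  rw [conjAt, mul_eq_one_iff_eq_inv, mul_eq_left] at e
  exact t_three.2 e

theorem nonadj (r : ℕ) (hr : r ∈ [7030, 10, 69]) :
    ¬ PairTwo (Subgroup.zpowers tElt) (conjSub certP genP tElt r) := by
  have hlt : r < certP.N := by
    have h : ([7030, 10, 69].all fun r => Nat.blt r certP.N) = true := by decide +kernel
    simpa [Nat.blt_eq] using List.all_eq_true.mp h r hr
  obtain ⟨x, rfl⟩ : ∃ x : Fin certP.N, (x : ℕ) = r := ⟨⟨r, hlt⟩, rfl⟩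
  have h := List.all_eq_true.mp nonadj_reps _ hr
  rw [Bool.and_eq_true, Bool.not_eq_true', Bool.not_eq_true'] at h
  obtain ⟨e1, l1⟩ := pair_words t_lt (tAt_lt x)
  obtain ⟨e2, l2⟩ := pair_words t_lt (rev_lt (tAt_lt x))
  refine not_pairTwo t_three.1 (conjP_three x) ?_ ?_ <;> rw [conjP_eq, tElt]
  · rw [← e1]
    simpa using ne_same l1 nil_lt h.1
  · rw [← setupA.model.revInv_eq, ← e2]
    simpa using ne_same l2 nil_lt h.2

theorem graphP : setupP.SubGraph tElt (1 ||| subMaskP1) := by
  have h1 : (1 : ℕ) < certP.N := by decide +kernel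
  refine setupP.subGraph_of t_three.2 subP_norm subMaskP1_orbit
    (others := [subMaskP0, subMaskP2, subMaskP3]) ?_ ?_ ?_ ?_
  · intro x hx
    have h := Nat.eq_of_beq_eq_true (subMasksP_cover x hx)
    rw [maskCover, Nat.beq_eq]
    simp only [subMasksP, List.length_cons, List.length_nil] at h ⊢
    rw [show List.range (0 + 1 + 1 + 1 + 1 + 1) = [0, 1, 2, 3, 4] from rfl] at h ⊢
    simp only [List.countP_cons, List.countP_nil, List.getD_cons_zero, List.getD_cons_succ] at h ⊢
    omega
  · have h := adj_rep
    rw [Bool.or_eq_true] at h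
    obtain ⟨e1, l1⟩ := pair_words t_lt (tAt_lt ⟨1, h1⟩)
    obtain ⟨e2, l2⟩ := pair_words t_lt (rev_lt (tAt_lt ⟨1, h1⟩))
    have ec := conjP_eq ⟨1, h1⟩
    rcases h with h | h
    · refine ⟨tElt, Subgroup.mem_zpowers _, _, Subgroup.mem_zpowers _, t_three.2,
        conjP_ne ⟨1, h1⟩, ?_⟩
      rw [ec, tElt, ← e1, eq_same l1 nil_lt h, prodW_nil]
    · refine ⟨tElt, Subgroup.mem_zpowers _, _, inv_mem (Subgroup.mem_zpowers _), t_three.2,
        fun e => conjP_ne ⟨1, h1⟩ (inv_eq_one.mp e), ?_⟩
      rw [ec, tElt, ← setupA.model.revInv_eq, ← e2, eq_same l2 nil_lt h, prodW_nil]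
  · intro e
    have h := adj_rep_distinct
    simp only [Bool.or_eq_false_iff] at h
    have hm : conjAt certP genP tElt 1 ∈ Subgroup.zpowers tElt := e ▸ Subgroup.mem_zpowers _
    have ec := conjP_eq ⟨1, h1⟩
    rcases eq_of_mem_zpowers_three t_three.1 hm with e' | e' | e' <;> rw [show
      conjAt certP genP tElt 1 = prodW gen (tAt 1) from ec] at e'
    · exact ne_same (tAt_lt ⟨1, h1⟩) nil_lt h.2 (by rw [e', prodW_nil])
    · exact ne_same (tAt_lt ⟨1, h1⟩) t_lt h.1.1 e'
    · exact ne_same (tAt_lt ⟨1, h1⟩) (rev_lt t_lt) h.1.2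
        (by rw [setupA.model.revInv_eq]; exact e')
  · intro m hm
    simp only [List.mem_cons, List.not_mem_nil, or_false] at hm
    rcases hm with rfl | rfl | rfl
    · exact ⟨7030, subMaskP0_orbit, nonadj _ (by simp)⟩
    · exact ⟨10, subMaskP2_orbit, nonadj _ (by simp)⟩
    · exact ⟨69, subMaskP3_orbit, nonadj _ (by simp)⟩

theorem hN : certA.N = 1782 := rfl

/-- the second fixed coset -/
noncomputable def fOne : Fin certA.N := ⟨qOne, by decide +kernel⟩
/-- the third fixed coset -/
noncomputable def fTwo : Fin certA.N := ⟨qTwo, by decide +kernel⟩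
/-- the fourth fixed coset -/
noncomputable def fThree : Fin certA.N := ⟨qThree, by decide +kernel⟩

theorem im {u : List ℕ} (hu : ∀ g ∈ u, g < certA.K) (x y : Fin certA.N)
    (h : Nat.beq (certA.run x (certA.revInv u)) y = true) : rho (prodW gen u) x = y :=
  Fin.ext ((setupA.rho_prodW hu x).trans (Nat.eq_of_beq_eq_true h))

theorem v_order : orderOf (prodW gen vWordA) = 7 := by
  haveI : Fact (Nat.Prime 7) := ⟨by norm_num⟩
  refine orderOf_eq_prime (setupA.pow_eq_one_of_bases chain_ok hsize
    (List.all_eq_true.mp words_ok vWordA (by simp)) v_power) ?_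
  simpa using ne_same v_lt nil_lt v_moves

theorem maskA : MaskInv rho subA twoMask := setupA.maskInv_or subMask0_orbit

theorem repWordsA : setupA.RepWords :=
  setupA.repWords_of (k := 11) (by decide +kernel) (by decide +kernel)

theorem v_cent (x : Suz) (hx : Commute x (prodW gen vWordA)) (ho : orderOf x = orderOf tElt) :
    ∃ c : Suz, Subgroup.zpowers (c * tElt * c⁻¹) = Subgroup.zpowers x := by
  set V := prodW gen vWordA
  have hp := point_facts
  simp only [Bool.and_eq_true] at hp
  obtain ⟨⟨⟨⟨⟨⟨⟨⟨⟨⟨t0, t1⟩, t2⟩, t3⟩, h1⟩, h2⟩, h3⟩, v0⟩, v1⟩, v2⟩, v3⟩ := hp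
  have T0 : rho tElt setupA.base = setupA.base := im t_lt setupA.base setupA.base t0
  have T1 : rho tElt fOne = fTwo := im t_lt fOne fTwo t1
  have T2 : rho tElt fTwo = fThree := im t_lt fTwo fThree t2
  have T3 : rho tElt fThree = fOne := im t_lt fThree fOne t3
  have V0 := im v_lt setupA.base setupA.base v0
  have V1 := im v_lt fOne fOne v1
  have V2 := im v_lt fTwo fTwo v2
  have V3 := im v_lt fThree fThree v3
  have hmem : ∀ y : Fin certA.N, rho V y = y →
      y = setupA.base ∨ y = fOne ∨ y = fTwo ∨ y = fThree := by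
    intro y hy
    have h := Cert.allPts_spec v_four (y : ℕ) y.2
    rw [← setupA.rho_prodW v_lt, hy, show Nat.beq (y : ℕ) y = true by simp] at h
    simp only [Bool.not_true, Bool.false_or, Bool.or_eq_true] at h
    rcases h with ((h | h) | h) | h
    · exact Or.inl (Fin.ext (Nat.eq_of_beq_eq_true h))
    · exact Or.inr (Or.inl (Fin.ext (Nat.eq_of_beq_eq_true h)))
    · exact Or.inr (Or.inr (Or.inl (Fin.ext (Nat.eq_of_beq_eq_true h))))
    · exact Or.inr (Or.inr (Or.inr (Fin.ext (Nat.eq_of_beq_eq_true h))))
  have hperm : ∀ k : Suz, Commute k V → ∀ y, rho V y = y → rho V (rho k y) = rho k y := by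
    intro k hk y hy
    rw [← Equiv.Perm.mul_apply, ← map_mul, ← hk.eq, map_mul, Equiv.Perm.mul_apply, hy]
  have htv : Commute tElt V := by
    have h := eq_same (app_lt t_lt v_lt) (app_lt v_lt t_lt) tv_comm
    rwa [prodW_append, prodW_append] at h
  have hne : setupA.base ≠ fOne ∧ setupA.base ≠ fTwo ∧ setupA.base ≠ fThree ∧ fOne ≠ fTwo ∧
      fOne ≠ fThree ∧ fTwo ≠ fThree := by
    refine ⟨?_, ?_, ?_, ?_, ?_, ?_⟩ <;> intro e <;> have e' := congrArg Fin.val e <;>
      simp [Setup.base, fOne, fTwo, fThree, qOne, qTwo, qThree] at e'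
  obtain ⟨n01, n02, n03, n12, n13, n23⟩ := hne
  -- an element of order three fixing the base coset
  have base : ∀ y : Suz, Commute y V → orderOf y = 3 → rho y setupA.base = setupA.base →
      Subgroup.zpowers y = Subgroup.zpowers tElt := by
    intro y hy hyo hy0
    have hy3 : ∀ z, rho y (rho y (rho y z)) = z := fun z => by
      rw [← Equiv.Perm.mul_apply, ← Equiv.Perm.mul_apply, ← map_mul, ← map_mul,
        show y * y * y = y ^ 3 by rw [pow_succ, pow_two], ← hyo, pow_orderOf_eq_one, map_one,
        Equiv.Perm.one_apply]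
    have img : ∀ z, rho V z = z → z ≠ setupA.base →
        rho y z = fOne ∨ rho y z = fTwo ∨ rho y z = fThree := fun z hz hne0 =>
      (hmem _ (hperm y hy z hz)).resolve_left fun e =>
        hne0 ((rho y).injective (e.trans hy0.symm))
    have inj := (rho y).injective
    have cases3 : (rho y fOne = fOne ∧ rho y fTwo = fTwo ∧ rho y fThree = fThree) ∨
        (rho y fOne = fTwo ∧ rho y fTwo = fThree ∧ rho y fThree = fOne) ∨
        (rho y fOne = fThree ∧ rho y fTwo = fOne ∧ rho y fThree = fTwo) := by
      have c1 := hy3 fOne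
      have c2 := hy3 fTwo
      have c3 := hy3 fThree
      rcases img fOne V1 n01.symm with a | a | a <;> rcases img fTwo V2 n02.symm with b | b | b <;>
        rcases img fThree V3 n03.symm with c | c | c
      all_goals first
        | exact absurd (inj (a.trans b.symm)) n12
        | exact absurd (inj (a.trans c.symm)) n13
        | exact absurd (inj (b.trans c.symm)) n23
        | exact Or.inl ⟨a, b, c⟩
        | exact Or.inr (Or.inl ⟨a, b, c⟩)
        | exact Or.inr (Or.inr ⟨a, b, c⟩)
        | (exfalso; simp_all)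
    have small : ∀ k : Suz, Commute k V → rho k setupA.base = setupA.base → rho k fOne = fOne →
        rho k fTwo = fTwo → rho k fThree = fThree → k ∈ Subgroup.zpowers V := by
      intro k hk k0 k1 k2 k3
      refine setupA.fix_list_cases repWordsA maskA v_lt
        (F := [setupA.base, fOne, fTwo, fThree]) v_first chain_ok hsize v_search ?_ hk ?_
      · intro z hz
        simp only [List.mem_cons, List.not_mem_nil, or_false] at hz
        rcases hz with rfl | rfl | rfl | rfl <;> assumption
      · intro z hz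
        simp only [List.mem_cons, List.not_mem_nil, or_false] at hz
        rcases hz with rfl | rfl | rfl | rfl <;> assumption
    -- `y` is `tElt ^ e` up to a power of `V`, which must be trivial
    have fin : ∀ u : Suz, Commute u V → u * u * u = 1 → y * u⁻¹ ∈ Subgroup.zpowers V → y = u := by
      intro u hu hu3 hm
      obtain ⟨i, hi⟩ := Subgroup.mem_zpowers_iff.mp hm
      have hz : y = V ^ i * u := by rw [hi, inv_mul_cancel_right]
      have hzc : Commute (V ^ i) u := (hu.zpow_right i).symm
      have h3 : (V ^ i) ^ 3 = 1 := by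
        have : y ^ 3 = 1 := hyo ▸ pow_orderOf_eq_one y
        rwa [hz, hzc.mul_pow, show u ^ 3 = 1 by rw [pow_succ, pow_two]; exact hu3, mul_one] at this
      have hd : orderOf (V ^ i) = 1 := by
        refine Nat.eq_one_of_dvd_coprimes (show Nat.Coprime 3 7 by norm_num)
          (orderOf_dvd_of_pow_eq_one h3) ?_
        rw [← v_order]
        exact orderOf_dvd_of_mem_zpowers (zpow_mem (Subgroup.mem_zpowers V) i)
      rw [hz, orderOf_eq_one_iff.mp hd, one_mul]
    have tinv : ∀ a b : Fin certA.N, rho tElt a = b → rho tElt⁻¹ b = a := fun a b e => by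
      rw [map_inv, Equiv.Perm.inv_eq_iff_eq]; exact e.symm
    rcases cases3 with ⟨a, b, c⟩ | ⟨a, b, c⟩ | ⟨a, b, c⟩
    · exfalso
      have := fin 1 (Commute.one_left V) (by simp) (by simpa using small y hy hy0 a b c)
      rw [this, orderOf_one] at hyo
      norm_num at hyo
    · rw [fin tElt htv t_three.1 (small _ (hy.mul_left htv.inv_left)
        (by rw [map_mul, Equiv.Perm.mul_apply, tinv _ _ T0, hy0])
        (by rw [map_mul, Equiv.Perm.mul_apply, tinv _ _ T3, c])
        (by rw [map_mul, Equiv.Perm.mul_apply, tinv _ _ T1, a])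
        (by rw [map_mul, Equiv.Perm.mul_apply, tinv _ _ T2, b]))]
    · rw [fin tElt⁻¹ htv.inv_left (by
          rw [← mul_inv_rev, ← mul_inv_rev, ← mul_assoc, t_three.1, inv_one])
        (small _ (hy.mul_left htv.inv_left.inv_left)
        (by rw [inv_inv, map_mul, Equiv.Perm.mul_apply, T0, hy0])
        (by rw [inv_inv, map_mul, Equiv.Perm.mul_apply, T1, b])
        (by rw [inv_inv, map_mul, Equiv.Perm.mul_apply, T2, c])
        (by rw [inv_inv, map_mul, Equiv.Perm.mul_apply, T3, a])), Subgroup.zpowers_inv]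
  -- some fixed coset of `V` is fixed by `x`; move it to the base
  have hx3 : orderOf x = 3 := ho.trans t_order
  have via : ∀ w : List ℕ, w ∈ [hWord1, hWord2, hWord3] → ∀ z : Fin certA.N,
      rho (prodW gen w) setupA.base = z → rho x z = z →
      ∃ c : Suz, Subgroup.zpowers (c * tElt * c⁻¹) = Subgroup.zpowers x := by
    intro w hw z hz hxz
    have hwl : ∀ g ∈ w, g < certA.K :=
      lt_seven (List.all_eq_true.mp words_ok w (List.mem_cons_of_mem _ (List.mem_cons_of_mem _ hw)))
    have hf := List.all_eq_true.mp h_facts w hw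
    rw [Bool.and_eq_true] at hf
    have hc : Commute (prodW gen w) V := by
      have h := eq_same (app_lt hwl v_lt) (app_lt v_lt hwl) hf.1
      rwa [prodW_append, prodW_append] at h
    have h2 : prodW gen w * prodW gen w = 1 := by
      rw [← prodW_append, eq_same (app_lt hwl hwl) nil_lt hf.2, prodW_nil]
    set c := prodW gen w
    refine ⟨c, ?_⟩
    have hci : c⁻¹ = c := inv_eq_of_mul_eq_one_right h2
    have e := base (c⁻¹ * x * c) ((hc.inv_left.mul_left hx).mul_left hc)
      (by rw [show c⁻¹ * x * c = MulAut.conj c⁻¹ x by simp, MulEquiv.orderOf_eq, hx3])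
      (by rw [map_mul, map_mul, Equiv.Perm.mul_apply, Equiv.Perm.mul_apply, hz, hxz, map_inv,
        Equiv.Perm.inv_eq_iff_eq, hz])
    rw [← map_conj_zpowers, ← e, map_conj_zpowers,
      show c * (c⁻¹ * x * c) * c⁻¹ = x by group]
  by_contra hno
  have img0 := hmem _ (hperm x hx setupA.base V0)
  have fixed : rho x setupA.base = setupA.base ∨ rho x fOne = fOne ∨ rho x fTwo = fTwo ∨
      rho x fThree = fThree := by
    have x3 : ∀ z, rho x (rho x (rho x z)) = z := fun z => by
      rw [← Equiv.Perm.mul_apply, ← Equiv.Perm.mul_apply, ← map_mul, ← map_mul,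
        show x * x * x = x ^ 3 by rw [pow_succ, pow_two], ← hx3, pow_orderOf_eq_one, map_one,
        Equiv.Perm.one_apply]
    have c0 := x3 setupA.base
    have c1 := x3 fOne
    have c2 := x3 fTwo
    have c3 := x3 fThree
    rcases img0 with a | a | a | a <;>
      rcases hmem _ (hperm x hx fOne V1) with b | b | b | b <;>
      rcases hmem _ (hperm x hx fTwo V2) with c | c | c | c <;>
      rcases hmem _ (hperm x hx fThree V3) with d | d | d | d
    all_goals first
      | exact Or.inl a
      | exact Or.inr (Or.inl b)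
      | exact Or.inr (Or.inr (Or.inl c))
      | exact Or.inr (Or.inr (Or.inr d))
      | exact absurd ((rho x).injective (a.trans b.symm)) n01
      | exact absurd ((rho x).injective (a.trans c.symm)) n02
      | exact absurd ((rho x).injective (a.trans d.symm)) n03
      | exact absurd ((rho x).injective (b.trans c.symm)) n12
      | exact absurd ((rho x).injective (b.trans d.symm)) n13
      | exact absurd ((rho x).injective (c.trans d.symm)) n23
      | (exfalso; simp_all)
  rcases fixed with e | e | e | e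
  · exact hno ⟨1, by rw [one_mul, inv_one, mul_one, base x hx hx3 e]⟩
  · exact hno (via hWord1 (by simp) fOne
      (im (lt_seven (List.all_eq_true.mp words_ok _ (by simp))) setupA.base fOne h1) e)
  · exact hno (via hWord2 (by simp) fTwo
      (im (lt_seven (List.all_eq_true.mp words_ok _ (by simp))) setupA.base fTwo h2) e)
  · exact hno (via hWord3 (by simp) fThree
      (im (lt_seven (List.all_eq_true.mp words_ok _ (by simp))) setupA.base fThree h3) e)

theorem inner_fix (φ : MulAut Suz) :
    ∃ g : Suz, Subgroup.zpowers (g * φ tElt * g⁻¹) = Subgroup.zpowers tElt := by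
  haveI : Fact (Nat.Prime 7) := ⟨by norm_num⟩
  refine exists_inner_fix_sub v_order (by rw [card_faithful.1]; norm_num) ?_ v_cent φ
  have h := eq_same (app_lt t_lt v_lt) (app_lt v_lt t_lt) tv_comm
  rwa [prodW_append, prodW_append] at h

theorem stdP_lt (k : ℕ) (hk : k < stdP.length) : stdP.getD k 0 < certP.N := by
  have h := std_points
  simp only [Bool.and_eq_true, List.all_eq_true, ltB_iff] at h
  rw [List.getD_eq_getElem _ _ hk]
  exact h.1 _ (List.getElem_mem hk)

theorem std_top :
    Subgroup.closure {y | ∃ k < stdP.length, conjAt certP genP tElt (stdP.getD k 0) = y} = ⊤ := by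
  set S := Subgroup.closure {y | ∃ k < stdP.length, conjAt certP genP tElt (stdP.getD k 0) = y}
  have hws : ∀ w ∈ stdP.map fun x => certP.revInv (certP.repWord x) ++ (tWord ++ certP.repWord x),
      (∀ g ∈ w, g < certP.K) ∧ prodW genP w ∈ S := by
    intro w hw
    obtain ⟨x, hx, rfl⟩ := List.mem_map.mp hw
    obtain ⟨k, hk, rfl⟩ := List.getElem_of_mem hx
    have hlt := stdP_lt k hk
    rw [List.getD_eq_getElem _ _ hk] at hlt
    refine ⟨rawAt_lt ⟨_, hlt⟩, Subgroup.subset_closure ⟨k, hk, ?_⟩⟩
    rw [List.getD_eq_getElem _ _ hk, show stdP[k] = ((⟨_, hlt⟩ : Fin certP.N) : ℕ) from rfl,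
      conjP_eq, tAt, ← prodW_genP (rawAt_lt _)]
  have hstart : ∀ y, stdMask.testBit y = true →
      ∃ hy : y < certP.N, conjSub certP genP tElt (⟨y, hy⟩ : Fin certP.N) ≤ S := by
    intro y hy
    have h := stdMask_only
    rw [Bool.and_eq_true] at h
    have hy15 : y < 2 ^ 15 := by
      by_contra hc
      have := Nat.testBit_lt_two_pow (lt_of_lt_of_le (ltB_iff.mp h.2)
        (Nat.pow_le_pow_right (by norm_num) (not_lt.mp hc)))
      rw [hy] at this
      simp at this
    have h' := allUp_spec h.1 y (Nat.zero_le _) (by omega)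
    simp only [strict_eq] at h'
    rw [hy, pick_true, List.any_eq_true] at h'
    obtain ⟨x, hx, e⟩ := h'
    obtain rfl := Nat.eq_of_beq_eq_true e
    obtain ⟨k, hk, rfl⟩ := List.getElem_of_mem hx
    have hlt := stdP_lt k hk
    rw [List.getD_eq_getElem _ _ hk] at hlt
    refine ⟨hlt, ?_⟩
    rw [conjSub, Subgroup.zpowers_le]
    exact Subgroup.subset_closure ⟨k, hk, by rw [List.getD_eq_getElem _ _ hk]⟩
  have hreach := setupP.conjSub_le_of_reach subP_norm hws (beq_iff_eq.mp span_reach) hstart
  haveI : IsSimpleGroup Suz := isSuz.1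
  have hconj : ∀ g < certP.K, ∀ s ∈ S, genP g * s * (genP g)⁻¹ ∈ S := by
    intro g hg s hs
    induction hs using Subgroup.closure_induction with
    | mem y hy =>
      obtain ⟨k, hk, rfl⟩ := hy
      have hlt := stdP_lt k hk
      have e := setupP.conjSub_smul subP_norm (genP g) ⟨stdP.getD k 0, hlt⟩
      have h := std_points
      simp only [Bool.and_eq_true, List.all_eq_true, List.mem_range] at h
      have hbit := h.2 g hg (stdP.getD k 0)
        (by rw [List.getD_eq_getElem _ _ hk]; exact List.getElem_mem hk)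
      obtain ⟨hy', hle⟩ := hreach _ hbit
      have er := setupP.rho_prodW (w := [g]) (fun l hl => by rw [List.mem_singleton.mp hl]; exact hg)
        ⟨stdP.getD k 0, hlt⟩
      rw [prodW_cons, prodW_nil, mul_one] at er
      rw [er] at e
      refine hle (?_ : _ ∈ conjSub certP genP tElt (certP.run (stdP.getD k 0) (certP.revInv [g])))
      rw [← e]
      exact ⟨_, Subgroup.mem_zpowers _, rfl⟩
    | one => simp
    | mul a b _ _ ha hb =>
      rw [show genP g * (a * b) * (genP g)⁻¹ = genP g * a * (genP g)⁻¹ * (genP g * b * (genP g)⁻¹)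
        by group]
      exact mul_mem ha hb
    | inv a _ ha =>
      rw [show genP g * a⁻¹ * (genP g)⁻¹ = (genP g * a * (genP g)⁻¹)⁻¹ by group]
      exact inv_mem ha
  have hnormal : S.Normal := by
    refine ⟨fun s hs c => ?_⟩
    have hc : c ∈ Subgroup.closure {y | ∃ g < certP.K, genP g = y} := by
      rw [setupP.gen_top]; trivial
    induction hc using Subgroup.closure_induction_left generalizing s with
    | one => simpa using hs
    | mul_left y hy z _ hz =>
      obtain ⟨g, hg, rfl⟩ := hy
      rw [show genP g * z * s * (genP g * z)⁻¹ = genP g * (z * s * z⁻¹) * (genP g)⁻¹ by group]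
      exact hconj g hg _ (hz s hs)
    | inv_mul_cancel y hy z _ hz =>
      obtain ⟨g, hg, rfl⟩ := hy
      rw [inv_eq_of_mul_eq_one_right (genP_sq g),
        show genP g * z * s * (genP g * z)⁻¹ = genP g * (z * s * z⁻¹) * (genP g)⁻¹ by group]
      exact hconj g hg _ (hz s hs)
  refine (Subgroup.Normal.eq_bot_or_eq_top hnormal).resolve_left fun h => ?_
  have hm : conjAt certP genP tElt (stdP.getD 0 0) ∈ S :=
    Subgroup.subset_closure ⟨0, by decide +kernel, rfl⟩
  rw [h, Subgroup.mem_bot] at hm
  exact conjP_ne ⟨_, stdP_lt 0 (by decide +kernel)⟩ hm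

theorem std_links (k : ℕ) (hk : k < stdP.length) (hpos : 0 < k) : ∃ l < k,
    ((conjAt certP genP tElt (stdP.getD l 0) * conjAt certP genP tElt (stdP.getD k 0)) *
      (conjAt certP genP tElt (stdP.getD l 0) * conjAt certP genP tElt (stdP.getD k 0)) = 1) ↔
    ¬ ((conjAt certP genP tElt (stdP.getD l 0) * (conjAt certP genP tElt (stdP.getD k 0))⁻¹) *
      (conjAt certP genP tElt (stdP.getD l 0) * (conjAt certP genP tElt (stdP.getD k 0))⁻¹) = 1) := by
  obtain ⟨i, rfl⟩ : ∃ i, k = i + 1 := ⟨k - 1, by omega⟩
  have hlen : stdP.length = 6 := rfl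
  have h := List.all_eq_true.mp links_ok i (List.mem_range.mpr (by omega))
  rw [Bool.and_eq_true, ltB_iff, beq_iff_eq, nth_eq, nth_eq, nth_eq] at h
  refine ⟨_, h.1, ?_⟩
  set l := linkList.getD i 0
  have hl := stdP_lt l (by omega)
  have hk' := stdP_lt (i + 1) hk
  rw [show stdP.getD l 0 = ((⟨_, hl⟩ : Fin certP.N) : ℕ) from rfl,
    show stdP.getD (i + 1) 0 = ((⟨_, hk'⟩ : Fin certP.N) : ℕ) from rfl, conjP_eq, conjP_eq]
  obtain ⟨e1, l1⟩ := pair_words (tAt_lt ⟨_, hl⟩) (tAt_lt ⟨_, hk'⟩)
  obtain ⟨e2, l2⟩ := pair_words (tAt_lt ⟨_, hl⟩) (rev_lt (tAt_lt ⟨_, hk'⟩))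
  rw [← setupA.model.revInv_eq, ← e1, ← e2]
  cases hb : sameA (sqWord (tAt (stdP.getD l 0)) (certA.revInv (tAt (stdP.getD (i + 1) 0)))) []
  · rw [hb, Bool.not_false] at h
    exact iff_of_true (by simpa using eq_same l1 nil_lt h.2) (by simpa using ne_same l2 nil_lt hb)
  · rw [hb, Bool.not_true] at h
    exact iff_of_false (by simpa using ne_same l1 nil_lt h.2)
      (not_not.mpr (by simpa using eq_same l2 nil_lt hb))

theorem tup_ok : certP.tupOK (1 ||| subMaskP1) stdP suzNodes [stdP] = true := by
  unfold Cert.tupOK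
  simp only [Bool.and_eq_true]
  refine ⟨⟨⟨?_, by decide +kernel⟩, by decide +kernel⟩, by decide +kernel⟩
  unfold suzNodes
  simp only [List.all_cons, List.all_nil, Bool.and_eq_true, and_true]
  exact ⟨suzNode0_ok, suzNode1_ok, suzNode2_ok, suzNode3_ok, suzNode4_ok, suzNode5_ok, suzNode6_ok⟩

/-- the outer permutation -/
noncomputable def outerPerm : Equiv.Perm (Fin certA.N) :=
  Function.Involutive.toPerm
    (fun x => ⟨outerA x % certA.N, Nat.mod_lt _ (lt_of_le_of_lt (Nat.zero_le _) x.2)⟩) (by
      intro x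
      have h := Cert.allPts_spec outer_ok x x.2
      rw [band_eq_true, band_eq_true, ltB_iff] at h
      refine Fin.ext ?_
      show outerA (outerA x % certA.N) % certA.N = x
      rw [Nat.mod_eq_of_lt (show outerA x < certA.N from h.1), Nat.eq_of_beq_eq_true h.2.1,
        Nat.mod_eq_of_lt x.2])

theorem outerPerm_apply (x : Fin certA.N) : (outerPerm x : ℕ) = outerA x := by
  have h := Cert.allPts_spec outer_ok x x.2
  rw [band_eq_true, ltB_iff] at h
  exact Nat.mod_eq_of_lt h.1

theorem out_card : Nat.card (Cfsg.Out Suz) = 2 := by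
  haveI : IsSimpleGroup Suz := isSuz.1
  have hle : Nat.card (Cfsg.Out Suz) ≤ 2 :=
    setupP.card_out_le_two repWordsP graphP t_three.1 inner_fix (by decide +kernel) stdP_lt
      std_nodup tup_ok std_top std_links
  have hsq : outerPerm * outerPerm = 1 := Equiv.ext fun x => by
    refine Fin.ext ?_
    have h := Cert.allPts_spec outer_ok x x.2
    rw [band_eq_true, band_eq_true] at h
    rw [Equiv.Perm.mul_apply, outerPerm_apply, outerPerm_apply, Nat.eq_of_beq_eq_true h.2.1]
    rfl
  have hinv : outerPerm⁻¹ = outerPerm := inv_eq_of_mul_eq_one_right hsq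
  have hlt : 1 < Nat.card (Cfsg.Out Suz) := by
    refine setupA.one_lt_card_out card_faithful.2 (by rw [card_faithful.1]; norm_num) only_base
      outerPerm hsq (sign_involution (j := 420) outerPerm hsq outerA outerPerm_apply
        (by rw [hN, outer_fixed])) fun k hk => ?_
    have key : ∀ y ∈ Subgroup.closure
        {y | ∃ k < stdP.length, conjAt certP genP tElt (stdP.getD k 0) = y},
        outerPerm * rho y * outerPerm ∈ rho.range := by
      intro y hy
      induction hy using Subgroup.closure_induction with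
      | mem y hy =>
        obtain ⟨j, hj, rfl⟩ := hy
        refine ⟨(conjAt certP genP tElt (stdP.getD j 0))⁻¹, Equiv.ext fun x => Fin.ext ?_⟩
        have hlt := stdP_lt j hj
        have h := Cert.allPts_spec outer_ok x x.2
        simp only [band_eq_true, List.all_eq_true] at h
        have h' := Nat.eq_of_beq_eq_true
          (h.2.2 (stdP.getD j 0) (by rw [List.getD_eq_getElem _ _ hj]; exact List.getElem_mem hj))
        have ec := conjP_eq ⟨_, hlt⟩
        simp only at ec
        rw [ec, Equiv.Perm.mul_apply, Equiv.Perm.mul_apply, outerPerm_apply,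
          setupA.rho_prodW (tAt_lt ⟨_, hlt⟩) (outerPerm x), outerPerm_apply, h',
          ← setupA.model.revInv_eq, setupA.rho_prodW (rev_lt (tAt_lt ⟨_, hlt⟩))]
        have hinvinv : ∀ w : List ℕ, certA.revInv (certA.revInv w) = w := by
          intro w
          have hi : ∀ g, certA.inv g = g := fun g => by
            rw [Cert.inv, show certA.invs = List.range 7 from rfl, List.getD_eq_getElem?_getD]
            by_cases hg : g < 7 <;> simp [hg]
          simp [Cert.revInv, Function.comp_def, hi]
        rw [hinvinv]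
      | one => exact ⟨1, by rw [map_one, mul_one, hsq]⟩
      | mul a b _ _ ha hb =>
        have e : outerPerm * rho (a * b) * outerPerm =
            (outerPerm * rho a * outerPerm) * (outerPerm * rho b * outerPerm) := by
          rw [map_mul, ← mul_assoc (outerPerm * rho a * outerPerm),
            ← mul_assoc (outerPerm * rho a * outerPerm), mul_assoc (outerPerm * rho a) outerPerm
              outerPerm, hsq, mul_one, mul_assoc (outerPerm * rho a)]
          simp [mul_assoc]
        rw [e]; exact mul_mem ha hb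
      | inv a _ ha =>
        have e : outerPerm * rho a⁻¹ * outerPerm = (outerPerm * rho a * outerPerm)⁻¹ := by
          rw [map_inv, mul_inv_rev, mul_inv_rev, hinv, mul_assoc]
        rw [e]; exact inv_mem ha
    exact key _ (by rw [std_top]; trivial)
  omega

end CfsgLib.SuzPres
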