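import Cfsg.Agent.Lib.CosetEnum.SubgroupGraph
import Cfsg.Agent.Lib.CosetEnum.CentSearchFix
import Cfsg.Agent.Lib.SuzPres.IndexP
import Cfsg.Agent.Lib.SuzPres.OutData

/-!
Definitions for the outer automorphism group of the presented Suzuki group.
-/

set_option autoImplicit false
set_option linter.style.longLine false

namespace CfsgLib.SuzPres

open CfsgLib.CosetEnum

/-- position of a letter of the reordered alphabet in the first one -/
noncomputable def toFirst (g : ℕ) : ℕ := nth [0, 1, 2, 3, 5, 6, 4] g g

/-- the second fixed coset -/
def qOne : ℕ := 643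

/-- the third fixed coset -/
def qTwo : ℕ := 1775

/-- the fourth fixed coset -/
def qThree : ℕ := 1759

/-- the fixed cosets as pairs -/
def fixPairs : List (ℕ × ℕ) := [(0, 0), (643, 643), (1775, 1775), (1759, 1759)]

/-- the graph mask -/
def twoMask : ℕ := 1 ||| subMask0

/-- the word in the first alphabet of the conjugate attached to a coset -/
noncomputable def tAt (x : ℕ) : List ℕ :=
  ((certP.revInv (certP.repWord x)) ++ (tWord ++ certP.repWord x)).map toFirst

end CfsgLib.SuzPres
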