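import Cfsg.Agent.Lib.SuzPres.OutBase

/-!
Cheap checks for the outer automorphism group of the presented Suzuki group.
-/

set_option autoImplicit false
set_option linter.style.longLine false
set_option Elab.async false

namespace CfsgLib.SuzPres

open CfsgLib.CosetEnum

/-- two words agree on the base points -/
noncomputable def sameA (u w : List ℕ) : Bool := sameBases certA levels u w

theorem words_ok : ([tWord, vWordA, hWord1, hWord2, hWord3].all fun w => w.all fun g => Nat.blt g 7) = true := by
  decide +kernel

theorem toFirst_ok : ((List.range 7).all fun g => Nat.blt (toFirst g) 7) = true := by decide +kernel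

theorem tWord_fixed : (tWord.map toFirst == tWord) = true := by decide +kernel

theorem t_norm : ((List.range 6).all fun g =>
    sameA (toFirst g :: (tWord ++ [toFirst g])) tWord ||
      sameA (toFirst g :: (tWord ++ [toFirst g])) (certA.revInv tWord)) = true := by decide +kernel

theorem t_cube : sameA (tWord ++ (tWord ++ tWord)) [] = true := by decide +kernel
theorem t_moves : sameA tWord [] = false := by decide +kernel
theorem v_power : (levels.all fun l => wordFix certA (powWord vWordA 7) l.base) = true := by
  decide +kernel
theorem v_moves : sameA vWordA [] = false := by decide +kernel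
theorem tv_comm : sameA (tWord ++ vWordA) (vWordA ++ tWord) = true := by decide +kernel

theorem h_facts : ([hWord1, hWord2, hWord3].all fun h =>
    sameA (h ++ vWordA) (vWordA ++ h) && sameA (h ++ h) []) = true := by decide +kernel

theorem point_facts : (Nat.beq (certA.run 0 (certA.revInv tWord)) 0 &&
    Nat.beq (certA.run qOne (certA.revInv tWord)) qTwo &&
    Nat.beq (certA.run qTwo (certA.revInv tWord)) qThree &&
    Nat.beq (certA.run qThree (certA.revInv tWord)) qOne &&
    Nat.beq (certA.run 0 (certA.revInv hWord1)) qOne &&
    Nat.beq (certA.run 0 (certA.revInv hWord2)) qTwo &&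
    Nat.beq (certA.run 0 (certA.revInv hWord3)) qThree &&
    Nat.beq (certA.run 0 (certA.revInv vWordA)) 0 &&
    Nat.beq (certA.run qOne (certA.revInv vWordA)) qOne &&
    Nat.beq (certA.run qTwo (certA.revInv vWordA)) qTwo &&
    Nat.beq (certA.run qThree (certA.revInv vWordA)) qThree) = true := by decide +kernel

/-- the square of the product of the element with a conjugate -/
noncomputable def sqWord (u w : List ℕ) : List ℕ := u ++ (w ++ (u ++ w))

theorem adj_rep : (sameA (sqWord tWord (tAt 1)) [] ||
    sameA (sqWord tWord (certA.revInv (tAt 1))) []) = true := by decide +kernel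

theorem adj_rep_distinct : (sameA (tAt 1) tWord || sameA (tAt 1) (certA.revInv tWord) ||
    sameA (tAt 1) []) = false := by decide +kernel

theorem nonadj_reps : ([7030, 10, 69].all fun r =>
    !(sameA (sqWord tWord (tAt r)) []) && !(sameA (sqWord tWord (certA.revInv (tAt r))) [])) = true := by
  decide +kernel

/-- an earlier neighbour of each member of the tuple -/
def linkList : List ℕ := [0, 0, 0, 1, 1]

theorem links_ok : ((List.range 5).all fun i =>
    ltB (nth linkList i 0) (i + 1) &&
    (sameA (sqWord (tAt (nth stdP (nth linkList i 0) 0)) (tAt (nth stdP (i + 1) 0))) [] ==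
      !(sameA (sqWord (tAt (nth stdP (nth linkList i 0) 0)) (certA.revInv (tAt (nth stdP (i + 1) 0)))) []))) = true := by
  decide +kernel

theorem std_points : ((stdP.all fun x => ltB x 22880) &&
    (List.range certP.K).all fun g => stdP.all fun x => Nat.testBit spanMask (certP.run x (certP.revInv [g]))) = true := by
  decide +kernel

theorem span_reach :
    (reach certP (stdP.map fun x => certP.revInv (certP.repWord x) ++ (tWord ++ certP.repWord x))
      spanTree stdMask == some spanMask) = true := by decide +kernel

theorem stdMask_only : (allUp (fun x => strict x fun x => pick (Nat.testBit stdMask x)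
    (stdP.any fun y => Nat.beq y x) true) 15 0 && ltB stdMask (2 ^ (2 ^ 15))) = true := by decide +kernel

theorem std_nodup : stdP.Nodup := by decide +kernel

/-- the outer permutation on numbers -/
noncomputable def outerA (x : ℕ) : ℕ := outerTabA.at' 20 x

theorem outer_ok : Cert.allPts 1782 (fun x => band (ltB (outerA x) 1782) (band (Nat.beq (outerA (outerA x)) x)
    (stdP.all fun y => Nat.beq (outerA (certA.run (outerA x) (certA.revInv (tAt y))))
      (certA.run x (tAt y))))) = true := by decide +kernel

theorem outer_fixed : fixCount outerA 1782 = 100 := by decide +kernel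

theorem only_base : onlyBaseOK certA = true := by decide +kernel

end CfsgLib.SuzPres
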